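import Mathlib

set_option autoImplicit false

namespace Cfsg.Agent.Lib.Helper37.MIX

/-- every prime divisor of `n` is `p` or `q`. -/
def PQ (p q n : ℕ) : Prop := ∀ l : ℕ, l.Prime → l ∣ n → l = p ∨ l = q

/-- the hypotheses of S4017. -/
structure Hyp (G : Type*) [Group G] [Finite G] (p q : ℕ) : Prop where
  hp : p.Prime
  hq : q.Prime
  hpq : p ≠ q
  hp2 : p ≠ 2
  hpG : p ∣ Nat.card G
  hqG : q ∣ Nat.card G
  hmix : ∀ H : Subgroup G, H ≠ ⊤ → ¬ IsPGroup q H → q ∣ Nat.card H → p ∣ Nat.card H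
  hlarge : q ^ (Nat.card G).factorization q - 1 < p ∨
    (p = q ^ (Nat.card G).factorization q - 1 ∧ ∀ P : Sylow p G, IsMulCommutative P)

/-- the minimal counterexample (`q = 2`, `p = 2^a - 1`). -/
structure Ctx (G : Type*) [Group G] [Finite G] (p : ℕ) (Q : Sylow 2 G) (g : G) : Prop where
  hp : p.Prime
  hp2 : p ≠ 2
  sub : ∀ H : Subgroup G, H ≠ ⊤ → 2 ∣ Nat.card H → PQ p 2 (Nat.card H)
  simple : ∀ N : Subgroup G, N.Normal → N = ⊥ ∨ N = ⊤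
  bad : ¬ PQ p 2 (Nat.card G)
  ab : ∀ P : Sylow p G, ∀ x ∈ P, ∀ y ∈ P, x * y = y * x
  nr : ∀ l : ℕ, l.Prime → l ≠ p → l ≠ 2 → ∀ R : Subgroup G, IsPGroup l R → R ≠ ⊥ →
    ¬ 2 ∣ Nat.card ↥(Subgroup.normalizer (R : Set G))
  hg : g ∈ Subgroup.normalizer ((Q : Subgroup G) : Set G)
  hgp : ∃ k : ℕ, orderOf g = p ^ k
  card : Nat.card Q = p + 1
  trans : ∀ x ∈ Q, x ≠ 1 → ∀ y ∈ Q, y ≠ 1 → ∃ i : ℕ, g ^ i * x * (g ^ i)⁻¹ = y

/-- the data produced by Burnside's transfer theorem in `C_G(t)`. -/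
structure Cen {G : Type*} [Group G] (p : ℕ) (Q : Sylow 2 G) (t : G) (Y : Subgroup G) : Prop where
  pg : IsPGroup p Y
  le : Y ≤ Subgroup.centralizer ({t} : Set G)
  nor : Subgroup.centralizer ({t} : Set G) ≤ Subgroup.normalizer (Y : Set G)
  sup : Y ⊔ (Q : Subgroup G) = Subgroup.centralizer ({t} : Set G)
  mem : ∀ y ∈ Subgroup.centralizer ({t} : Set G), (∃ k : ℕ, orderOf y = p ^ k) → y ∈ Y

end Cfsg.Agent.Lib.Helper37.MIX
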