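import Mathlib
import Cfsg.Agent.Lib.Helper37.MIX.Defs

set_option autoImplicit false

namespace Cfsg.Agent.Lib.Helper37.MIX

open Subgroup

variable {G : Type*} [Group G] [Finite G] {p q : ℕ}

theorem elem_exists_two (Q : Subgroup G) (h : 3 ≤ Nat.card Q) :
    ∃ x ∈ Q, ∃ y ∈ Q, x ≠ 1 ∧ y ≠ 1 ∧ x ≠ y := by
  classical
  have := Fintype.ofFinite Q
  rw [Nat.card_eq_fintype_card] at h
  obtain ⟨a, b, c, hab, hac, hbc⟩ := Fintype.two_lt_card_iff.mp h
  have hv : ∀ u v : Q, u ≠ v → (u : G) ≠ v := fun u v huv e => huv (Subtype.ext e)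
  by_cases ha : a = 1
  · refine ⟨b, b.2, c, c.2, ?_, ?_, hv _ _ hbc⟩
    · intro e; exact hab (by rw [ha]; exact (Subtype.ext e).symm)
    · intro e; exact hac (by rw [ha]; exact (Subtype.ext e).symm)
  · by_cases hb : b = 1
    · refine ⟨a, a.2, c, c.2, ?_, ?_, hv _ _ hac⟩
      · intro e; exact ha (Subtype.ext e)
      · intro e; exact hbc (by rw [hb]; exact (Subtype.ext e).symm)
    · refine ⟨a, a.2, b, b.2, ?_, ?_, hv _ _ hab⟩
      · intro e; exact ha (Subtype.ext e)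
      · intro e; exact hb (Subtype.ext e)

theorem quot_dvd (hp : p.Prime) (hp2 : p ≠ 2) (Q : Sylow 2 G) (g : G)
    (hg : g ∈ normalizer ((Q : Subgroup G) : Set G)) (hgp : ∃ k : ℕ, orderOf g = p ^ k)
    (hcard : Nat.card Q = p + 1)
    (htr : ∀ x ∈ Q, x ≠ 1 → ∀ y ∈ Q, y ≠ 1 → ∃ i : ℕ, g ^ i * x * (g ^ i)⁻¹ = y)
    (N : Subgroup G) [N.Normal] (hN : IsPGroup p N) : p ∣ Nat.card (G ⧸ N) := by
  by_contra hnd
  have := Fact.mk hp
  have hgN : g ∈ N := by
    obtain ⟨k, hk⟩ := hgp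
    have h1 : orderOf (QuotientGroup.mk' N g) ∣ p ^ k := by
      rw [← hk]; exact orderOf_map_dvd _ g
    have h2 : orderOf (QuotientGroup.mk' N g) ∣ Nat.card (G ⧸ N) := orderOf_dvd_natCard _
    obtain ⟨j, _, hj⟩ := (Nat.dvd_prime_pow hp).mp h1
    have hj0 : j = 0 := by
      by_contra hj0
      apply hnd
      exact (dvd_pow_self p hj0).trans (hj ▸ h2)
    rw [hj0, pow_zero, orderOf_eq_one_iff] at hj
    exact (QuotientGroup.eq_one_iff g).mp hj
  have hdisj : Disjoint (Q : Subgroup G) N :=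
    IsPGroup.disjoint_of_ne 2 p (Ne.symm hp2) _ _ Q.2 hN
  have hcomm : ∀ x ∈ Q, g * x * g⁻¹ = x := by
    intro x hx
    have h1 : g * x * g⁻¹ * x⁻¹ ∈ (Q : Subgroup G) :=
      (Q : Subgroup G).mul_mem ((mem_normalizer_iff.mp hg x).mp hx) ((Q : Subgroup G).inv_mem hx)
    have h2 : g * x * g⁻¹ * x⁻¹ ∈ N := by
      have : g * x * g⁻¹ * x⁻¹ = g * (x * g⁻¹ * x⁻¹) := by group
      rw [this]
      exact N.mul_mem hgN (‹N.Normal›.conj_mem _ (N.inv_mem hgN) x)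
    have h3 : g * x * g⁻¹ * x⁻¹ = 1 := by
      have := (Subgroup.disjoint_def.mp hdisj) h1 h2
      exact this
    exact mul_inv_eq_one.mp h3
  have hpow : ∀ (i : ℕ), ∀ x ∈ Q, g ^ i * x * (g ^ i)⁻¹ = x := by
    intro i
    induction i with
    | zero => intro x _; simp
    | succ n ih =>
      intro x hx
      have : g ^ (n + 1) * x * (g ^ (n + 1))⁻¹ = g * (g ^ n * x * (g ^ n)⁻¹) * g⁻¹ := by
        rw [pow_succ']; group
      rw [this, ih x hx, hcomm x hx]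
  have h3 : 3 ≤ Nat.card (Q : Subgroup G) := by
    have : Nat.card (Q : Subgroup G) = p + 1 := hcard
    have := hp.two_le
    omega
  obtain ⟨x, hx, y, hy, hx1, hy1, hxy⟩ := elem_exists_two (Q : Subgroup G) h3
  obtain ⟨i, hi⟩ := htr x hx hx1 y hy hy1
  rw [hpow i x hx] at hi
  exact hxy hi

variable {Q : Sylow 2 G} {g : G}

theorem Ctx.elem (C : Ctx G p Q g) : (∀ x ∈ Q, x ^ 2 = 1) ∧ (∀ x ∈ Q, ∀ y ∈ Q, x * y = y * x) ∧
    ∀ x y : G, orderOf x = 2 → orderOf y = 2 → IsConj x y := by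
  have hodd : Odd p := C.hp.odd_of_ne_two C.hp2
  have h2 : 2 ∣ Nat.card (Q : Subgroup G) := by
    have : Nat.card (Q : Subgroup G) = p + 1 := C.card
    rw [this]
    obtain ⟨k, hk⟩ := hodd
    exact ⟨k + 1, by omega⟩
  obtain ⟨z, hz⟩ := exists_prime_orderOf_dvd_card' (G := (Q : Subgroup G)) 2 h2
  have hz1 : (z : G) ≠ 1 := by
    intro e
    have : z = 1 := Subtype.ext e
    rw [this, orderOf_one] at hz
    omega
  have hz2 : (z : G) ^ 2 = 1 := by
    have := pow_orderOf_eq_one z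
    rw [hz] at this
    exact congrArg Subtype.val this
  have hexp : ∀ x ∈ Q, x ^ 2 = 1 := by
    intro x hx
    by_cases hx1 : x = 1
    · rw [hx1, one_pow]
    · obtain ⟨i, hi⟩ := C.trans z z.2 hz1 x hx hx1
      rw [← hi, conj_pow, hz2]; simp
  have hab : ∀ x ∈ Q, ∀ y ∈ Q, x * y = y * x := by
    intro x hx y hy
    have h1 := hexp x hx
    have h2 := hexp y hy
    have h3 := hexp (x * y) ((Q : Subgroup G).mul_mem hx hy)
    have hxi : x⁻¹ = x := by
      rw [inv_eq_iff_mul_eq_one, ← pow_two]; exact h1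
    have hyi : y⁻¹ = y := by
      rw [inv_eq_iff_mul_eq_one, ← pow_two]; exact h2
    have h4 : (x * y)⁻¹ = x * y := by
      rw [inv_eq_iff_mul_eq_one, ← pow_two]; exact h3
    rw [mul_inv_rev, hxi, hyi] at h4
    exact h4.symm
  refine ⟨hexp, hab, ?_⟩
  have key : ∀ x : G, orderOf x = 2 → ∃ γ : G, γ * x * γ⁻¹ ∈ (Q : Subgroup G) ∧ γ * x * γ⁻¹ ≠ 1 := by
    intro x hx
    have hxp : IsPGroup 2 (zpowers x) := IsPGroup.of_card (n := 1) (by rw [Nat.card_zpowers, hx]; rfl)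
    obtain ⟨S, hS⟩ := hxp.exists_le_sylow
    obtain ⟨γ, hγ⟩ := MulAction.exists_smul_eq G S Q
    refine ⟨γ, ?_, ?_⟩
    · have hxS : x ∈ (S : Subgroup G) := hS (mem_zpowers x)
      have : γ * x * γ⁻¹ ∈ ((γ • S : Sylow 2 G) : Subgroup G) := by
        rw [Sylow.coe_subgroup_smul]
        exact Subgroup.smul_mem_pointwise_smul x (MulAut.conj γ) _ hxS
      rwa [hγ] at this
    · intro e
      have : x = 1 := by
        have := congrArg (fun w => γ⁻¹ * w * γ) e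
        simpa [mul_assoc] using this
      rw [this, orderOf_one] at hx
      omega
  intro x y hx hy
  obtain ⟨a, ha, ha1⟩ := key x hx
  obtain ⟨b, hb, hb1⟩ := key y hy
  obtain ⟨i, hi⟩ := C.trans _ ha ha1 _ hb hb1
  rw [isConj_iff]
  refine ⟨b⁻¹ * g ^ i * a, ?_⟩
  have : b⁻¹ * g ^ i * a * x * (b⁻¹ * g ^ i * a)⁻¹ = b⁻¹ * (g ^ i * (a * x * a⁻¹) * (g ^ i)⁻¹) * b := by
    group
  rw [this, hi]
  group

end Cfsg.Agent.Lib.Helper37.MIX
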