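import Mathlib
import Cfsg.Agent.Lib.Helper37.MIX.Defs
import Cfsg.Agent.Lib.Helper37.MIX.ELEM
import Cfsg.Agent.S3278

set_option autoImplicit false

namespace Cfsg.Agent.Lib.Helper37.MIX

open Subgroup

variable {G : Type*} [Group G] [Finite G] {p q : ℕ}
variable {Q : Sylow 2 G} {g : G}

theorem abc3_card_alt : Nat.card ↥(alternatingGroup (Fin 5)) = 60 := by
  have h := two_mul_card_alternatingGroup (α := Fin 5)
  rw [Fintype.card_perm, Fintype.card_fin] at h
  rw [Nat.card_eq_fintype_card]
  have : Nat.factorial 5 = 120 := by decide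
  omega

theorem Ctx.ab_false_3 (C : Ctx G p Q g) (hp3 : p = 3) (t : G) (ht : t ∈ Q) (ht1 : t ≠ 1)
    (hab : ∀ x ∈ centralizer ({t} : Set G), ∀ y ∈ centralizer ({t} : Set G), x * y = y * x) : False := by
  obtain ⟨hexp, hQab, hconj⟩ := C.elem
  have hot : orderOf t = 2 := orderOf_eq_prime (hexp t ht) ht1
  have : Nontrivial G := ⟨⟨t, 1, ht1⟩⟩
  have : IsSimpleGroup G := ⟨fun N hN => C.simple N hN⟩
  have hle : (Q : Subgroup G) ≤ centralizer ({t} : Set G) := by
    intro x hx
    rw [mem_centralizer_singleton_iff]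
    exact hQab x hx t ht
  have hcard4 : Nat.card (Q : Subgroup G) = 4 := by
    have : Nat.card (Q : Subgroup G) = p + 1 := C.card
    omega
  have hK : IsKleinFour ↥(Q : Subgroup G) := by
    refine ⟨hcard4, ?_⟩
    have h1 : Monoid.exponent ↥(Q : Subgroup G) ∣ 2 := by
      apply Monoid.exponent_dvd_of_forall_pow_eq_one
      intro x
      exact Subtype.ext (hexp x x.2)
    rcases (Nat.dvd_prime Nat.prime_two).mp h1 with h2 | h2
    · exfalso
      have := Monoid.pow_exponent_eq_one (⟨t, ht⟩ : (Q : Subgroup G))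
      rw [h2, pow_one] at this
      exact ht1 (congrArg Subtype.val this)
    · exact h2
  have hodd : ¬ 2 ∣ (Q : Subgroup G).relIndex (centralizer ({t} : Set G)) := by
    intro h2
    apply Q.not_dvd_index
    rw [← Subgroup.relIndex_mul_index hle]
    exact Dvd.dvd.mul_right h2 _
  have hn : ((Q : Subgroup G).subgroupOf (centralizer ({t} : Set G))).Normal := by
    refine ⟨fun n hn c => ?_⟩
    have : c * n * c⁻¹ = n := by
      apply Subtype.ext
      change (c : G) * n * (c : G)⁻¹ = n
      rw [hab c c.2 n n.2]; group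
    rw [this]; exact hn
  obtain ⟨e⟩ := Cfsg.Agent.S3278.result t hot (Q : Subgroup G) hle hK hodd hn
  have hG : Nat.card G = 60 := by rw [Nat.card_congr e.toEquiv, abc3_card_alt]
  have := Fact.mk (show Nat.Prime 5 by norm_num)
  obtain ⟨R⟩ : Nonempty (Sylow 5 G) := inferInstance
  have h5R : 5 ∣ Nat.card (R : Subgroup G) := R.dvd_card_of_dvd_card (by rw [hG]; norm_num)
  have hRne : (R : Subgroup G) ≠ ⊥ := by
    intro h
    rw [h, Subgroup.card_bot] at h5R
    omega
  have hnr := C.nr 5 (by norm_num) (by omega) (by omega) (R : Subgroup G) R.2 hRne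
  have h5N : 5 ∣ Nat.card ↥(normalizer ((R : Subgroup G) : Set G)) :=
    h5R.trans (Subgroup.card_dvd_of_le le_normalizer)
  have hmod := card_sylow_modEq_one 5 G
  rw [R.card_eq_index_normalizer] at hmod
  have hmul := Subgroup.card_mul_index (normalizer ((R : Subgroup G) : Set G))
  rw [hG] at hmul
  unfold Nat.ModEq at hmod
  generalize Nat.card ↥(normalizer ((R : Subgroup G) : Set G)) = m at hnr h5N hmul
  generalize (normalizer ((R : Subgroup G) : Set G)).index = n5 at hmod hmul
  have hn5le : n5 ≤ 60 := Nat.le_of_dvd (by norm_num) ⟨m, by rw [← hmul, mul_comm]⟩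
  clear hodd h5R
  interval_cases n5 <;> omega

end Cfsg.Agent.Lib.Helper37.MIX
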