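import Mathlib
import Cfsg.Agent.Lib.Helper37.MIX.Defs
import Cfsg.Agent.Lib.Helper37.MIX.ELEM
import Cfsg.Agent.S2202

set_option autoImplicit false

namespace Cfsg.Agent.Lib.Helper37.MIX

open Subgroup

variable {G : Type*} [Group G] [Finite G] {p q : ℕ}
variable {Q : Sylow 2 G} {g : G}

theorem abcs_sl2 (F : Type*) [Field F] [CharP F 2] :
    ∃ a b : Matrix.SpecialLinearGroup (Fin 2) F, a ^ 2 = 1 ∧ b ^ 2 = 1 ∧ a ≠ 1 ∧ (a * b) ^ 3 = 1 ∧
      a * b ≠ 1 := by
  have h2 : (1 : F) + 1 = 0 := CharTwo.add_self_eq_zero 1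
  have mA : (!![1, 1; 0, 1] : Matrix (Fin 2) (Fin 2) F) * !![1, 1; 0, 1] = 1 := by
    rw [Matrix.mul_fin_two, Matrix.one_fin_two]; simp [h2]
  have mB : (!![1, 0; 1, 1] : Matrix (Fin 2) (Fin 2) F) * !![1, 0; 1, 1] = 1 := by
    rw [Matrix.mul_fin_two, Matrix.one_fin_two]; simp [h2]
  have mAB : (!![1, 1; 0, 1] : Matrix (Fin 2) (Fin 2) F) * !![1, 0; 1, 1] = !![0, 1; 1, 1] := by
    rw [Matrix.mul_fin_two]; simp [h2]
  have mZ : (!![0, 1; 1, 1] : Matrix (Fin 2) (Fin 2) F) * !![0, 1; 1, 1] * !![0, 1; 1, 1] = 1 := by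
    rw [Matrix.mul_fin_two, Matrix.mul_fin_two, Matrix.one_fin_two]; simp [h2]
  obtain ⟨a, ha⟩ : ∃ a : Matrix.SpecialLinearGroup (Fin 2) F, a.1 = !![1, 1; 0, 1] :=
    ⟨⟨!![1, 1; 0, 1], by simp [Matrix.det_fin_two]⟩, rfl⟩
  obtain ⟨b, hb⟩ : ∃ b : Matrix.SpecialLinearGroup (Fin 2) F, b.1 = !![1, 0; 1, 1] :=
    ⟨⟨!![1, 0; 1, 1], by simp [Matrix.det_fin_two]⟩, rfl⟩
  refine ⟨a, b, ?_, ?_, ?_, ?_, ?_⟩
  · rw [pow_two]
    apply Subtype.ext
    change a.1 * a.1 = 1
    rw [ha]
    exact mA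
  · rw [pow_two]
    apply Subtype.ext
    change b.1 * b.1 = 1
    rw [hb]
    exact mB
  · intro h
    have h' : a.1 = 1 := congrArg Subtype.val h
    rw [ha] at h'
    have := congrFun (congrFun h' 0) 1
    simp at this
  · rw [pow_succ, pow_two]
    apply Subtype.ext
    change a.1 * b.1 * (a.1 * b.1) * (a.1 * b.1) = 1
    rw [ha, hb, mAB]
    exact mZ
  · intro h
    have h' : a.1 * b.1 = 1 := congrArg Subtype.val h
    rw [ha, hb, mAB] at h'
    have := congrFun (congrFun h' 0) 1
    simp at this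

theorem Ctx.ab_false_ne3 (C : Ctx G p Q g) (hp3 : p ≠ 3) (t : G) (ht : t ∈ Q) (ht1 : t ≠ 1)
    (hab : ∀ x ∈ centralizer ({t} : Set G), ∀ y ∈ centralizer ({t} : Set G), x * y = y * x) : False := by
  obtain ⟨hexp, hQab, hconj⟩ := C.elem
  have hot : orderOf t = 2 := orderOf_eq_prime (hexp t ht) ht1
  have h2G : 2 ∣ Nat.card G := hot ▸ orderOf_dvd_natCard t
  have heven : Even (Nat.card G) := even_iff_two_dvd.mpr h2G
  have hp2le := C.hp.two_le
  have hcardQ : Nat.card (Q : Subgroup G) = p + 1 := C.card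
  have hall : ∀ s : G, orderOf s = 2 → IsMulCommutative ↥(centralizer ({s} : Set G)) := by
    intro s hs
    obtain ⟨c, hc⟩ := isConj_iff.mp (hconj t s hot hs)
    have key : ∀ a ∈ centralizer ({s} : Set G), c⁻¹ * a * c ∈ centralizer ({t} : Set G) := by
      intro a ha
      rw [mem_centralizer_singleton_iff] at ha ⊢
      rw [← hc] at ha
      have h1 : c⁻¹ * (a * (c * t * c⁻¹)) * c = c⁻¹ * ((c * t * c⁻¹) * a) * c := by rw [ha]
      calc c⁻¹ * a * c * t = c⁻¹ * (a * (c * t * c⁻¹)) * c := by group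
        _ = c⁻¹ * ((c * t * c⁻¹) * a) * c := h1
        _ = t * (c⁻¹ * a * c) := by group
    refine ⟨⟨fun a b => ?_⟩⟩
    apply Subtype.ext
    have h1 := hab _ (key a a.2) _ (key b b.2)
    change (a : G) * b = b * a
    have h2 : c * (c⁻¹ * (a : G) * c * (c⁻¹ * b * c)) * c⁻¹ = c * (c⁻¹ * (b : G) * c * (c⁻¹ * a * c)) * c⁻¹ := by
      rw [h1]
    calc (a : G) * b = c * (c⁻¹ * (a : G) * c * (c⁻¹ * b * c)) * c⁻¹ := by group
      _ = c * (c⁻¹ * (b : G) * c * (c⁻¹ * a * c)) * c⁻¹ := h2
      _ = b * a := by group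
  rcases Cfsg.Agent.S2202.result heven hall with h1 | h1 | ⟨F, _, _, A, _, _, hchar, -, ⟨e⟩⟩
  · have := h1 Q
    obtain ⟨z, hz⟩ := IsCyclic.exists_generator (α := (Q : Subgroup G))
    have ho : orderOf z = Nat.card (Q : Subgroup G) := orderOf_eq_card_of_forall_mem_zpowers hz
    have hle : orderOf z ≤ 2 := orderOf_le_of_pow_eq_one (by norm_num) (Subtype.ext (hexp z z.2))
    omega
  · rcases C.simple (Q : Subgroup G) (h1 Q) with h | h
    · rw [h, Subgroup.card_bot] at hcardQ; omega
    · apply C.bad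
      intro l hl hdvd
      right
      have hc : Nat.card G = Nat.card (Q : Subgroup G) := by rw [h, Subgroup.card_top]
      obtain ⟨k, hk⟩ := IsPGroup.iff_card.mp Q.2
      rw [hc, hk] at hdvd
      exact (Nat.prime_dvd_prime_iff_eq hl Nat.prime_two).mp (hl.dvd_of_dvd_pow hdvd)
  · obtain ⟨a, b, ha2, hb2, ha1, hz3, hz1⟩ := abcs_sl2 F
    set t' : G := e.symm (a, 1) with ht'
    set u' : G := e.symm (b, 1) with hu'
    have e1 : t' ^ 2 = 1 := by
      rw [ht', ← map_pow, Prod.pow_mk, ha2, one_pow]; exact map_one _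
    have e2 : u' ^ 2 = 1 := by
      rw [hu', ← map_pow, Prod.pow_mk, hb2, one_pow]; exact map_one _
    have e3 : t' ≠ 1 := by
      intro h
      have : (a, (1 : A)) = 1 := by
        have := congrArg e h
        simpa [ht'] using this
      exact ha1 (congrArg Prod.fst this)
    have e4 : (t' * u') ^ 3 = 1 := by
      rw [ht', hu', ← map_mul, ← map_pow, Prod.mk_mul_mk, Prod.pow_mk, hz3, one_mul, one_pow]
      exact map_one _
    have e5 : t' * u' ≠ 1 := by
      intro h
      have : (a * b, (1 : A)) = 1 := by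
        have := congrArg e h
        simpa [ht', hu'] using this
      exact hz1 (congrArg Prod.fst this)
    have ot : orderOf t' = 2 := orderOf_eq_prime e1 e3
    have oz : orderOf (t' * u') = 3 := by
      have := Fact.mk (show Nat.Prime 3 by norm_num)
      exact orderOf_eq_prime e4 e5
    have ti : t'⁻¹ = t' := by rw [inv_eq_iff_mul_eq_one, ← pow_two]; exact e1
    have ui : u'⁻¹ = u' := by rw [inv_eq_iff_mul_eq_one, ← pow_two]; exact e2
    set z := t' * u' with hz
    have zi : z⁻¹ = u' * t' := by rw [hz, mul_inv_rev, ti, ui]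
    by_cases hH : closure ({t', u'} : Set G) = ⊤
    · have hnorm : ∀ x : G, x * z * x⁻¹ = z⁻¹ → x ∈ normalizer ((zpowers z : Subgroup G) : Set G) := by
        intro x hx
        apply Subgroup.mem_normalizer_fintype
        intro n hn
        obtain ⟨k, rfl⟩ := hn
        change x * z ^ k * x⁻¹ ∈ zpowers z
        rw [← conj_zpow, hx]
        exact (zpowers z).zpow_mem ((zpowers z).inv_mem (mem_zpowers z)) k
      have h1 : t' ∈ normalizer ((zpowers z : Subgroup G) : Set G) := by
        apply hnorm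
        rw [zi, ti, hz]
        calc t' * (t' * u') * t' = t' ^ 2 * u' * t' := by rw [pow_two]; group
          _ = u' * t' := by rw [e1, one_mul]
      have h2 : u' ∈ normalizer ((zpowers z : Subgroup G) : Set G) := by
        apply hnorm
        rw [zi, ui, hz]
        calc u' * (t' * u') * u' = u' * t' * u' ^ 2 := by rw [pow_two]; group
          _ = u' * t' := by rw [e2, mul_one]
      have h3 : normalizer ((zpowers z : Subgroup G) : Set G) = ⊤ := by
        rw [eq_top_iff, ← hH, closure_le]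
        intro x hx
        rcases hx with rfl | rfl
        · exact h1
        · exact h2
      have hN : (zpowers z).Normal := normalizer_eq_top_iff.mp h3
      rcases C.simple _ hN with h | h
      · exact e5 (zpowers_eq_bot.mp h)
      · have hc : Nat.card G = 3 := by
          rw [← Subgroup.card_top, ← h, Nat.card_zpowers, oz]
        rw [hc] at h2G
        omega
    · have ht'H : t' ∈ closure ({t', u'} : Set G) := subset_closure (by simp)
      have hu'H : u' ∈ closure ({t', u'} : Set G) := subset_closure (by simp)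
      have d2 : 2 ∣ Nat.card ↥(closure ({t', u'} : Set G)) := by
        have := orderOf_dvd_natCard (⟨t', ht'H⟩ : ↥(closure ({t', u'} : Set G)))
        rwa [Subgroup.orderOf_mk, ot] at this
      have d3 : 3 ∣ Nat.card ↥(closure ({t', u'} : Set G)) := by
        have := orderOf_dvd_natCard (⟨z, mul_mem ht'H hu'H⟩ : ↥(closure ({t', u'} : Set G)))
        rwa [Subgroup.orderOf_mk, oz] at this
      rcases C.sub _ hH d2 3 (by norm_num) d3 with h | h
      · exact hp3 h.symm
      · omega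

end Cfsg.Agent.Lib.Helper37.MIX
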