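import Mathlib
import Cfsg.Agent.Lib.Helper37.MIX.Defs

set_option autoImplicit false

namespace Cfsg.Agent.Lib.Helper37.MIX

open Subgroup
open scoped Pointwise

variable {G : Type*} [Group G] [Finite G] {p q : ℕ}

/-- a `p`-subgroup is centralized by a conjugate of `t`, if `t` centralizes a Sylow `p`-subgroup. -/
theorem bswf_conj [Fact p.Prime] (P : Sylow p G) (t : G) (htP : ∀ w ∈ P, t * w = w * t)
    (X : Subgroup G) (hX : IsPGroup p X) :
    ∃ t' : G, orderOf t' = orderOf t ∧ ∀ x ∈ X, t' * x = x * t' := by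
  obtain ⟨P', hP'⟩ := hX.exists_le_sylow
  obtain ⟨γ, hγ⟩ := MulAction.exists_smul_eq G P P'
  refine ⟨γ * t * γ⁻¹, ?_, ?_⟩
  · have := (MulAut.conj γ).orderOf_eq t
    rwa [MulAut.conj_apply] at this
  · intro x hx
    have h1 : x ∈ ((γ • P : Sylow p G) : Subgroup G) := by
      rw [hγ]; exact hP' hx
    rw [Sylow.coe_subgroup_smul, Subgroup.mem_pointwise_smul_iff_inv_smul_mem] at h1
    have h2 : γ⁻¹ * x * γ ∈ (P : Subgroup G) := by
      simpa [MulAut.smul_def] using h1
    have h3 := htP _ h2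
    calc γ * t * γ⁻¹ * x = γ * (t * (γ⁻¹ * x * γ)) * γ⁻¹ := by group
      _ = γ * ((γ⁻¹ * x * γ) * t) * γ⁻¹ := by rw [h3]
      _ = x * (γ * t * γ⁻¹) := by group

variable {Q : Sylow 2 G} {g : G}

/-- BSWF -/
theorem Ctx.bsw_false [Fact p.Prime] (C : Ctx G p Q g) (hp3 : p = 3) (t : G) (ht : t ∈ Q) (ht1 : t ≠ 1)
    (P : Sylow p G) (htP : ∀ w ∈ P, t * w = w * t)
    (Q' D : Subgroup G)
    (h1 : ∀ x ∈ Q', x ≠ 1 → centralizer ({x} : Set G) = Q')
    (h2 : IsMulCommutative ↥D) (h3 : 2 * Nat.card ↥D + 1 = Nat.card ↥Q')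
    (h4 : normalizer (Q' : Set G) = Q' ⊔ D)
    (h5 : ∀ X : Subgroup G, X ≤ D → X ≠ ⊥ →
        normalizer (X : Set G) = normalizer (D : Set G) ∧
        ∃ u : G, orderOf u = 2 ∧ u ∉ D ∧ (∀ d ∈ D, u * d * u⁻¹ = d⁻¹) ∧
          normalizer (D : Set G) = D ⊔ zpowers u) : False := by
  have hpp : p.Prime := Fact.out
  have hDpos : 0 < Nat.card D := Nat.card_pos
  -- `t` has even order
  have h2t : 2 ∣ orderOf t := by
    obtain ⟨k, hk⟩ := Q.2 ⟨t, ht⟩
    have hk' : t ^ 2 ^ k = 1 := by
      have := congrArg Subtype.val hk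
      simpa using this
    obtain ⟨m, -, hm⟩ := (Nat.dvd_prime_pow Nat.prime_two).1 (orderOf_dvd_of_pow_eq_one hk')
    rcases Nat.eq_zero_or_pos m with rfl | hm0
    · rw [pow_zero, orderOf_eq_one_iff] at hm
      exact absurd hm ht1
    · rw [hm]
      exact dvd_pow_self 2 hm0.ne'
  have hodd : ¬ 2 ∣ Nat.card Q' := by
    rw [← h3]; omega
  -- (a)
  have ha : ¬ p ∣ Nat.card Q' := by
    intro hdvd
    obtain ⟨x, hx⟩ := exists_prime_orderOf_dvd_card' p hdvd
    have hx' : orderOf (x : G) = p := by rw [Subgroup.orderOf_coe, hx]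
    have hx1 : (x : G) ≠ 1 := by
      intro h
      rw [h, orderOf_one] at hx'
      exact hpp.one_lt.ne hx'
    have hX : IsPGroup p (zpowers (x : G)) := by
      apply IsPGroup.of_card (n := 1)
      rw [Nat.card_zpowers, hx', pow_one]
    obtain ⟨t', hot', hct'⟩ := bswf_conj P t htP _ hX
    have hmem : t' ∈ centralizer ({(x : G)} : Set G) := by
      rw [Subgroup.mem_centralizer_singleton_iff]
      exact hct' _ (mem_zpowers _)
    rw [h1 _ x.2 hx1] at hmem
    exact hodd ((hot' ▸ h2t).trans (Subgroup.orderOf_dvd_natCard Q' hmem))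
  -- (b)
  by_cases hD : D = ⊥
  · apply ha
    rw [← h3, hD, Subgroup.card_bot, hp3]
  -- (c)
  obtain ⟨-, u, hu2, huD, huinv, hND⟩ := h5 D le_rfl hD
  have huN : u ∈ normalizer (D : Set G) := by
    rw [hND]; exact (le_sup_right : zpowers u ≤ D ⊔ zpowers u) (mem_zpowers u)
  have hNtop : normalizer (D : Set G) ≠ ⊤ := by
    intro h
    have hn : D.Normal := normalizer_eq_top_iff.1 h
    rcases C.simple D hn with h | h
    · exact hD h
    · exact huD (h ▸ mem_top u)
  have h2N : 2 ∣ Nat.card (normalizer (D : Set G)) := hu2 ▸ Subgroup.orderOf_dvd_natCard _ huN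
  have hPQN := C.sub _ hNtop h2N
  have hPQD : PQ p 2 (Nat.card D) := fun l hl hld =>
    hPQN l hl (hld.trans (Subgroup.card_dvd_of_le le_normalizer))
  by_cases h2D : 2 ∣ Nat.card D
  · -- (c1)
    have hDN : D ≤ normalizer (Q' : Set G) := by rw [h4]; exact le_sup_right
    have h2NQ : 2 ∣ Nat.card (normalizer (Q' : Set G)) := h2D.trans (Subgroup.card_dvd_of_le hDN)
    have hNQtop : normalizer (Q' : Set G) ≠ ⊤ := by
      intro h
      have hn : Q'.Normal := normalizer_eq_top_iff.1 h
      rcases C.simple Q' hn with h | h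
      · rw [h, Subgroup.card_bot] at h3
        omega
      · apply hodd
        rw [h, Subgroup.card_top]
        exact h2D.trans (Subgroup.card_subgroup_dvd_card D)
    have hPQQ := C.sub _ hNQtop h2NQ
    have hne1 : Nat.card Q' ≠ 1 := by omega
    obtain ⟨l, hl, hld⟩ := Nat.exists_prime_and_dvd hne1
    rcases hPQQ l hl (hld.trans (Subgroup.card_dvd_of_le le_normalizer)) with rfl | rfl
    · exact ha hld
    · exact hodd hld
  · -- (c2)
    have hDp : IsPGroup p D := by
      have := Nat.eq_prime_pow_of_unique_prime_dvd (n := Nat.card D) (p := p) hDpos.ne'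
        (fun {d} hd hdd => (hPQD d hd hdd).resolve_right (by rintro rfl; exact h2D hdd))
      exact IsPGroup.of_card this
    obtain ⟨t', hot', hct'⟩ := bswf_conj P t htP D hDp
    have hcomm : ∀ a ∈ D, ∀ b ∈ D, a * b = b * a := by
      intro a ha' b hb'
      have := mul_comm' (⟨a, ha'⟩ : D) ⟨b, hb'⟩
      exact congrArg Subtype.val this
    have htN : t' ∈ normalizer (D : Set G) := by
      apply Subgroup.centralizer_le_normalizer
      intro x hx
      exact (hct' x hx).symm
    have hzn : zpowers u ≤ normalizer (D : Set G) := by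
      rw [zpowers_le]; exact huN
    rw [hND, sup_comm, ← SetLike.mem_coe, Subgroup.coe_mul_of_left_le_normalizer_right _ _ hzn,
      Set.mem_mul] at htN
    obtain ⟨z, hz, d, hd, hzd⟩ := htN
    have hz' : z = 1 ∨ z = u := by
      obtain ⟨i, hi⟩ := mem_zpowers_iff.1 hz
      rw [← zpow_mod_orderOf, hu2] at hi
      rcases Int.emod_two_eq_zero_or_one i with h | h
      · left; rw [← hi]; simp [h]
      · right; rw [← hi]; simp [h]
    rcases hz' with rfl | rfl
    · rw [one_mul] at hzd
      apply h2D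
      rw [← hzd] at hot'
      exact (hot' ▸ h2t).trans (Subgroup.orderOf_dvd_natCard D hd)
    · -- `z = u` centralizes and inverts `D`
      have hsq : ∀ e ∈ D, e ^ 2 = 1 := by
        intro e he
        have e1 := huinv e he
        have e2 := hct' e he
        rw [← hzd] at e2
        have e3 : z * e = e * z := by
          have : z * d * e = e * z * d := by rw [e2, mul_assoc]
          rw [mul_assoc, hcomm d hd e he, ← mul_assoc] at this
          exact mul_right_cancel this
        rw [e3, mul_assoc, mul_inv_cancel, mul_one] at e1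
        rw [pow_two]
        nth_rewrite 1 [e1]
        exact inv_mul_cancel e
      obtain ⟨e, he, he1⟩ : ∃ e ∈ D, e ≠ 1 := by
        by_contra hcon
        push Not at hcon
        exact hD ((Subgroup.eq_bot_iff_forall D).2 hcon)
      have : orderOf e = 2 := orderOf_eq_prime (hsq e he) he1
      exact h2D (this ▸ Subgroup.orderOf_dvd_natCard D he)

end Cfsg.Agent.Lib.Helper37.MIX
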