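import Mathlib
import Cfsg.Agent.Lib.Helper37.MIX.Defs

set_option autoImplicit false

namespace Cfsg.Agent.Lib.Helper37.MIX

open Subgroup

variable {G : Type*} [Group G] [Finite G] {p q : ℕ}

/-- HALL (pure). `|P||Q| ∣ |P ⊔ Q|` (coprime) and `|L| ∣ |G|`, `PQ` ⇒ `|L| ∣ |P||Q|`; `P ⊔ Q ≤ L`. -/
theorem hall_eq [Fact p.Prime] (hp2 : p ≠ 2) (P : Sylow p G) (Q : Sylow 2 G)
    (hQP : (Q : Subgroup G) ≤ normalizer ((P : Subgroup G) : Set G)) (L : Subgroup G)
    (hL : PQ p 2 (Nat.card L)) (hP : (P : Subgroup G) ≤ L) (hQ : (Q : Subgroup G) ≤ L) :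
    L = (P : Subgroup G) ⊔ (Q : Subgroup G) := by
  have hpp : p.Prime := Fact.out
  haveI : Fact (Nat.Prime 2) := ⟨Nat.prime_two⟩
  have hG0 : Nat.card G ≠ 0 := Nat.card_pos.ne'
  have hL0 : Nat.card L ≠ 0 := Nat.card_pos.ne'
  have hcP : Nat.card (P : Subgroup G) = p ^ (Nat.card G).factorization p := P.card_eq_multiplicity
  have hcQ : Nat.card (Q : Subgroup G) = 2 ^ (Nat.card G).factorization 2 := Q.card_eq_multiplicity
  have hP0 : Nat.card (P : Subgroup G) ≠ 0 := Nat.card_pos.ne'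
  have hQ0 : Nat.card (Q : Subgroup G) ≠ 0 := Nat.card_pos.ne'
  have hLG : Nat.card L ∣ Nat.card G := Subgroup.card_subgroup_dvd_card L
  have hdvd : Nat.card L ∣ Nat.card (P : Subgroup G) * Nat.card (Q : Subgroup G) := by
    rw [← Nat.factorization_prime_le_iff_dvd hL0 (mul_ne_zero hP0 hQ0)]
    intro l hl
    rw [Nat.factorization_mul hP0 hQ0, Finsupp.add_apply]
    by_cases hlL : l ∣ Nat.card L
    · have hle : (Nat.card L).factorization l ≤ (Nat.card G).factorization l :=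
        (Nat.factorization_le_iff_dvd hL0 hG0).2 hLG l
      rcases hL l hl hlL with h | h
      · subst h
        rw [hcP, Nat.Prime.factorization_pow hl, Finsupp.single_eq_same]
        omega
      · subst h
        rw [hcQ, Nat.Prime.factorization_pow hl, Finsupp.single_eq_same]
        omega
    · rw [Nat.factorization_eq_zero_of_not_dvd hlL]
      exact Nat.zero_le _
  have hcop : Nat.Coprime (Nat.card (P : Subgroup G)) (Nat.card (Q : Subgroup G)) := by
    rw [hcP, hcQ]
    exact Nat.Coprime.pow _ _ ((Nat.coprime_primes hpp Nat.prime_two).2 hp2)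
  have hmul : Nat.card (P : Subgroup G) * Nat.card (Q : Subgroup G) ∣
      Nat.card ↥((P : Subgroup G) ⊔ (Q : Subgroup G)) :=
    Nat.Coprime.mul_dvd_of_dvd_of_dvd hcop (Subgroup.card_dvd_of_le le_sup_left)
      (Subgroup.card_dvd_of_le le_sup_right)
  exact (Subgroup.eq_of_le_of_card_ge (sup_le hP hQ)
    (Nat.le_of_dvd Nat.card_pos (hdvd.trans hmul))).symm

end Cfsg.Agent.Lib.Helper37.MIX
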