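import Mathlib
import Cfsg.Agent.Lib.Helper37.MIX.Defs
import Cfsg.Agent.Lib.Helper37.MIX.ELEM
import Cfsg.Agent.Lib.Helper37.MIX.HALL

set_option autoImplicit false

namespace Cfsg.Agent.Lib.Helper37.MIX

open Subgroup

variable {G : Type*} [Group G] [Finite G] {p q : ℕ}

variable {Q : Sylow 2 G} {g : G}

theorem cte_two_dvd (C : Ctx G p Q g) : 2 ∣ Nat.card (Q : Subgroup G) := by
  have h : Nat.card (Q : Subgroup G) = p + 1 := C.card
  obtain ⟨r, hr⟩ := C.hp.odd_of_ne_two C.hp2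
  rw [h]
  omega

/-- a proper subgroup containing `P` and `Q` is `P ⊔ Q`. -/
theorem cte_key [Fact p.Prime] (C : Ctx G p Q g) (P : Sylow p G)
    (hQP : (Q : Subgroup G) ≤ normalizer ((P : Subgroup G) : Set G)) (L : Subgroup G) (hL : L ≠ ⊤)
    (hP : (P : Subgroup G) ≤ L) (hQ : (Q : Subgroup G) ≤ L) :
    L = (P : Subgroup G) ⊔ (Q : Subgroup G) :=
  hall_eq C.hp2 P Q hQP L (C.sub L hL ((cte_two_dvd C).trans (Subgroup.card_dvd_of_le hQ))) hP hQ

theorem cte_P_ne_top [Fact p.Prime] (C : Ctx G p Q g) (P : Sylow p G) : (P : Subgroup G) ≠ ⊤ := by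
  intro h
  have h2 : 2 ∣ Nat.card (P : Subgroup G) := by
    rw [h]
    exact (cte_two_dvd C).trans (Subgroup.card_dvd_of_le le_top)
  rw [show Nat.card (P : Subgroup G) = _ from P.card_eq_multiplicity] at h2
  have := (Nat.prime_dvd_prime_iff_eq Nat.prime_two C.hp).1 (Nat.prime_two.dvd_of_dvd_pow h2)
  exact C.hp2 this.symm

theorem cte_norm_ne_top (C : Ctx G p Q g) (X : Subgroup G) (h0 : X ≠ ⊥) (h1 : X ≠ ⊤) :
    normalizer (X : Set G) ≠ ⊤ := by
  intro h
  have hn : X.Normal := normalizer_eq_top_iff.1 h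
  rcases C.simple X hn with h | h
  · exact h0 h
  · exact h1 h

theorem cte_cent_ne_top (C : Ctx G p Q g) (t : G) (ht : t ∈ Q) (ht1 : t ≠ 1) :
    centralizer ({t} : Set G) ≠ ⊤ := by
  intro h
  have hc : ∀ a : G, a * t = t * a := fun a => by
    have : a ∈ centralizer ({t} : Set G) := h ▸ mem_top a
    exact mem_centralizer_singleton_iff.1 this
  have hn : (zpowers t).Normal := by
    constructor
    intro n hn a
    obtain ⟨k, rfl⟩ := mem_zpowers_iff.1 hn
    have : a * t ^ k * a⁻¹ = t ^ k := by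
      have hcomm : Commute a t := hc a
      rw [(hcomm.zpow_right k).eq, mul_inv_cancel_right]
    rw [this]
    exact zpow_mem (mem_zpowers t) k
  rcases C.simple _ hn with h0 | h0
  · exact ht1 (zpowers_eq_bot.1 h0)
  · have h1 : Nat.card G = orderOf t := by
      rw [← Nat.card_zpowers, h0]
      exact (Subgroup.card_top).symm
    have h2 : orderOf t ∣ 2 := orderOf_dvd_of_pow_eq_one (C.elem.1 t ht)
    have h3 : Nat.card (Q : Subgroup G) ∣ Nat.card G := Subgroup.card_subgroup_dvd_card _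
    have h4 : Nat.card (Q : Subgroup G) = p + 1 := C.card
    have h5 := Nat.le_of_dvd (by norm_num) h2
    have h6 := Nat.le_of_dvd Nat.card_pos h3
    have := C.hp.two_le
    omega

/-- CTE. `C(t) ≠ ⊤` and `N(P) ≠ ⊤` (simple), both contain `P` and `Q`, even order ⇒ `sub` + `hall_eq`. -/
theorem Ctx.ct_eq [Fact p.Prime] (C : Ctx G p Q g) (t : G) (ht : t ∈ Q) (ht1 : t ≠ 1)
    (P : Sylow p G) (hP1 : (P : Subgroup G) ≠ ⊥)
    (hQP : (Q : Subgroup G) ≤ normalizer ((P : Subgroup G) : Set G))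
    (htP : ∀ w ∈ P, t * w = w * t) :
    centralizer ({t} : Set G) = (P : Subgroup G) ⊔ (Q : Subgroup G) ∧
      normalizer ((P : Subgroup G) : Set G) = (P : Subgroup G) ⊔ (Q : Subgroup G) := by
  constructor
  · apply cte_key C P hQP _ (cte_cent_ne_top C t ht ht1)
    · intro w hw
      exact mem_centralizer_singleton_iff.2 (htP w hw).symm
    · intro v hv
      exact mem_centralizer_singleton_iff.2 (C.elem.2.1 v hv t ht)
  · exact cte_key C P hQP _ (cte_norm_ne_top C _ hP1 (cte_P_ne_top C P)) le_normalizer hQP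

end Cfsg.Agent.Lib.Helper37.MIX
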