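import Mathlib
import Cfsg.Agent.Lib.Helper37.MIX.Defs
import Cfsg.Agent.Lib.Helper37.MIX.ELEM
import Cfsg.Agent.Lib.Helper37.MIX.HALL
import Cfsg.Agent.Lib.Helper37.MIX.CTE

set_option autoImplicit false

namespace Cfsg.Agent.Lib.Helper37.MIX

open Subgroup

variable {G : Type*} [Group G] [Finite G] {p q : ℕ}

/-- elements of `P ⊔ ⟨t⟩` when the involution `t` centralizes the abelian group `P` -/
theorem ti_mem_sup (P : Subgroup G) (t : G) (htt : t * t = 1) (htP : ∀ w ∈ P, t * w = w * t) {k : G}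
    (hk : k ∈ P ⊔ zpowers t) : ∃ w ∈ P, k = w ∨ k = w * t := by
  have hinv : t⁻¹ = t := inv_eq_of_mul_eq_one_left htt
  let M : Subgroup G :=
    { carrier := {k | ∃ w ∈ P, k = w ∨ k = w * t}
      one_mem' := ⟨1, P.one_mem, Or.inl rfl⟩
      mul_mem' := by
        rintro a b ⟨w1, h1, ha⟩ ⟨w2, h2, hb⟩
        refine ⟨w1 * w2, P.mul_mem h1 h2, ?_⟩
        rcases ha with ha | ha <;> rcases hb with hb | hb <;> rw [ha, hb]
        · exact Or.inl rfl
        · exact Or.inr (by rw [mul_assoc])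
        · right
          rw [mul_assoc, htP w2 h2, mul_assoc]
        · left
          rw [mul_assoc, ← mul_assoc t, htP w2 h2, mul_assoc w2, htt, mul_one]
      inv_mem' := by
        rintro a ⟨w1, h1, ha⟩
        refine ⟨w1⁻¹, P.inv_mem h1, ?_⟩
        rcases ha with ha | ha <;> rw [ha]
        · exact Or.inl rfl
        · right
          rw [mul_inv_rev, hinv, htP _ (P.inv_mem h1)] }
  have hle : P ⊔ zpowers t ≤ M := by
    apply sup_le
    · intro w hw
      exact ⟨w, hw, Or.inl rfl⟩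
    · rw [zpowers_le]
      exact ⟨1, P.one_mem, Or.inr (by rw [one_mul])⟩
  exact hle hk

theorem ti_le_normalizer {E W : Subgroup G}
    (h : ∀ g ∈ E, ∀ x ∈ W, g * x * g⁻¹ ∈ W) : E ≤ normalizer (W : Set G) := by
  intro g hg
  rw [mem_normalizer_iff]
  intro x
  refine ⟨h g hg x, fun hx => ?_⟩
  have := h g⁻¹ (E.inv_mem hg) _ hx
  simpa [mul_assoc] using this

theorem ti_sq (P : Subgroup G) (t : G) (htt : t * t = 1) (htP : ∀ w ∈ P, t * w = w * t) {k w : G}
    (hw : w ∈ P) (hk : k = w ∨ k = w * t) : k * k = w * w := by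
  rcases hk with rfl | rfl
  · rfl
  · rw [mul_assoc, ← mul_assoc t, htP w hw, mul_assoc w, htt, mul_one]

variable {Q : Sylow 2 G} {g : G}

/-- TI. -/
theorem Ctx.ti [Fact p.Prime] (C : Ctx G p Q g) (hp3 : p = 3) (t : G) (ht : t ∈ Q) (ht1 : t ≠ 1)
    (P : Sylow p G) (hP1 : (P : Subgroup G) ≠ ⊥)
    (hQP : (Q : Subgroup G) ≤ normalizer ((P : Subgroup G) : Set G))
    (htP : ∀ w ∈ P, t * w = w * t)
    (hinv : ∀ u ∈ Q, u ≠ 1 → u ≠ t → ∀ w ∈ P, u * w * u⁻¹ = w⁻¹) :
    ∀ γ : G, γ ∉ centralizer ({t} : Set G) →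
      ((P : Subgroup G) ⊔ zpowers t) ⊓ ((P : Subgroup G) ⊔ zpowers t).map (MulAut.conj γ).toMonoidHom = ⊥ := by
  intro γ hγ
  obtain ⟨hexp, hQab, -⟩ := C.elem
  have htt : t * t = 1 := by rw [← sq]; exact hexp t ht
  have hPab := C.ab P
  have hodd : ∀ w ∈ P, w * w = 1 → w = 1 := by
    intro w hw hww
    obtain ⟨k, hk⟩ := P.2 ⟨w, hw⟩
    have hk' : w ^ (p ^ k) = 1 := by
      have := congrArg Subtype.val hk
      simpa using this
    have h1 : orderOf w ∣ 2 := orderOf_dvd_of_pow_eq_one (by rw [sq]; exact hww)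
    have h2 : orderOf w ∣ p ^ k := orderOf_dvd_of_pow_eq_one hk'
    have hc : Nat.Coprime 2 (p ^ k) :=
      Nat.Coprime.pow_right k ((Nat.coprime_primes Nat.prime_two C.hp).2 (Ne.symm C.hp2))
    have h3 := Nat.dvd_gcd h1 h2
    rw [hc.gcd_eq_one] at h3
    exact orderOf_eq_one_iff.1 (Nat.dvd_one.1 h3)
  obtain ⟨hCt, hNP⟩ := C.ct_eq t ht ht1 P hP1 hQP htP
  rw [eq_bot_iff]
  intro k hk
  obtain ⟨hk1, hk2⟩ := mem_inf.1 hk
  obtain ⟨k', hk', hkk'⟩ := hk2
  have hkk : γ * k' * γ⁻¹ = k := hkk'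
  obtain ⟨w, hw, hkw⟩ := ti_mem_sup (P : Subgroup G) t htt htP hk1
  obtain ⟨w', hw', hkw'⟩ := ti_mem_sup (P : Subgroup G) t htt htP hk'
  have hsq : k * k = w * w := ti_sq (P : Subgroup G) t htt htP hw hkw
  have hsq' : k' * k' = w' * w' := ti_sq (P : Subgroup G) t htt htP hw' hkw'
  have hconjsq : γ * (w' * w') * γ⁻¹ = w * w := by
    rw [← hsq, ← hsq', ← hkk]
    group
  rw [mem_bot]
  by_cases hw1 : w = 1
  · subst hw1
    rcases hkw with rfl | hkt
    · rfl
    · exfalso
      rw [one_mul] at hkt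
      have h1 : w' * w' = 1 := by
        have h2 : γ * (w' * w') * γ⁻¹ = 1 := by rw [hconjsq, mul_one]
        have h3 : w' * w' = γ⁻¹ * (γ * (w' * w') * γ⁻¹) * γ := by group
        rw [h3, h2]
        group
      have hw'1 := hodd w' hw' h1
      subst hw'1
      rcases hkw' with rfl | hk't
      · apply ht1
        rw [← hkt, ← hkk]
        group
      · rw [one_mul] at hk't
        apply hγ
        rw [mem_centralizer_singleton_iff]
        rw [hk't, hkt] at hkk
        exact mul_inv_eq_iff_eq_mul.1 hkk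
  · exfalso
    set y := w * w with hy
    have hyP : y ∈ (P : Subgroup G) := P.mul_mem hw hw
    have hy1 : y ≠ 1 := fun h => hw1 (hodd w hw h)
    have hXP : zpowers y ≤ (P : Subgroup G) := (zpowers_le).2 hyP
    set R : Subgroup G := (P : Subgroup G).map (MulAut.conj γ).toMonoidHom with hR
    have hRab : ∀ a ∈ R, ∀ b ∈ R, a * b = b * a := by
      rintro _ ⟨a, ha, rfl⟩ _ ⟨b, hb, rfl⟩
      rw [← map_mul, ← map_mul, hPab a ha b hb]
    have hyR : y ∈ R := ⟨w' * w', P.mul_mem hw' hw', hconjsq⟩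
    have hXR : zpowers y ≤ R := (zpowers_le).2 hyR
    set L := normalizer ((zpowers y : Subgroup G) : Set G) with hL
    have hPL : (P : Subgroup G) ≤ L := by
      apply ti_le_normalizer
      intro a ha x hx
      rw [hPab a ha x (hXP hx), mul_assoc, mul_inv_cancel, mul_one]
      exact hx
    have hRL : R ≤ L := by
      apply ti_le_normalizer
      intro a ha x hx
      rw [hRab a ha x (hXR hx), mul_assoc, mul_inv_cancel, mul_one]
      exact hx
    have hQL : (Q : Subgroup G) ≤ L := by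
      apply ti_le_normalizer
      intro u hu x hx
      by_cases hu1 : u = 1
      · rw [hu1, one_mul, inv_one, mul_one]; exact hx
      by_cases hut : u = t
      · rw [hut, htP x (hXP hx), mul_assoc, mul_inv_cancel, mul_one]; exact hx
      · rw [hinv u hu hu1 hut x (hXP hx)]
        exact inv_mem hx
    have hLtop : L ≠ ⊤ := by
      intro htop
      have hn : (zpowers y).Normal := normalizer_eq_top_iff.1 htop
      rcases C.simple _ hn with h0 | h0
      · exact hy1 (zpowers_eq_bot.1 h0)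
      · have htX : t ∈ zpowers y := h0 ▸ mem_top t
        exact ht1 (hodd t (hXP htX) htt)
    have h2L : 2 ∣ Nat.card L := by
      have h1 : Nat.card (Q : Subgroup G) ∣ Nat.card L := Subgroup.card_dvd_of_le hQL
      have h2 : Nat.card (Q : Subgroup G) = 4 := by
        have := C.card
        rw [hp3] at this
        exact this
      rw [h2] at h1
      exact Dvd.dvd.trans (by norm_num) h1
    have hLeq : L = (P : Subgroup G) ⊔ (Q : Subgroup G) :=
      hall_eq C.hp2 P Q hQP L (C.sub L hLtop h2L) hPL hQL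
    have hRN : R ≤ normalizer ((P : Subgroup G) : Set G) := by
      rw [hNP, ← hLeq]; exact hRL
    have hRp : IsPGroup p R := P.2.map _
    have hRP : R ≤ (P : Subgroup G) := by
      have h1 := hRp.inf_normalizer_sylow P
      intro a ha
      have h2 : a ∈ R ⊓ normalizer ((P : Subgroup G) : Set G) := mem_inf.2 ⟨ha, hRN ha⟩
      have h3 : a ∈ R ⊓ (P : Subgroup G) := h1 ▸ h2
      exact (mem_inf.1 h3).2
    have hReq : R = (P : Subgroup G) := by
      apply Subgroup.eq_of_le_of_card_ge hRP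
      rw [hR, Subgroup.card_map_of_injective (MulAut.conj γ).injective]
    apply hγ
    rw [hCt, ← hNP, mem_normalizer_iff]
    intro x
    constructor
    · intro hx
      exact hRP ⟨x, hx, rfl⟩
    · intro hx
      have hx' : γ * x * γ⁻¹ ∈ R := hReq ▸ hx
      obtain ⟨x', hx'P, hx'e⟩ := hx'
      have : x' = x := (MulAut.conj γ).injective hx'e
      exact this ▸ hx'P

end Cfsg.Agent.Lib.Helper37.MIX
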