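import Mathlib
import Cfsg.Agent.Lib.Helper37.MIX.Defs
import Cfsg.Agent.Lib.Helper37.MIX.ELEM
import Cfsg.Agent.Lib.Helper37.MIX.CTE
import Cfsg.Agent.Lib.Helper37.MIX.TI
import Cfsg.Agent.S3282

set_option autoImplicit false

namespace Cfsg.Agent.Lib.Helper37.MIX

open Subgroup

variable {G : Type*} [Group G] [Finite G] {p q : ℕ}
variable {Q : Sylow 2 G} {g : G}

theorem bswh_odd [Fact p.Prime] (hp2 : p ≠ 2) (P : Sylow p G) : ∀ w ∈ P, w * w = 1 → w = 1 := by
  have hp : p.Prime := Fact.out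
  intro w hw hww
  obtain ⟨k, hk⟩ := P.2 ⟨w, hw⟩
  have hk' : w ^ (p ^ k) = 1 := by
    have := congrArg Subtype.val hk
    simpa using this
  have h1 : orderOf w ∣ 2 := orderOf_dvd_of_pow_eq_one (by rw [sq]; exact hww)
  have h2 : orderOf w ∣ p ^ k := orderOf_dvd_of_pow_eq_one hk'
  have hc : Nat.Coprime 2 (p ^ k) :=
    Nat.Coprime.pow_right k ((Nat.coprime_primes Nat.prime_two hp).2 (Ne.symm hp2))
  have h3 := Nat.dvd_gcd h1 h2
  rw [hc.gcd_eq_one] at h3
  exact orderOf_eq_one_iff.1 (Nat.dvd_one.1 h3)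

theorem bswh_zpowers (t : G) (htt : t * t = 1) {s : G} (hs : s ∈ zpowers t) : s = 1 ∨ s = t := by
  have h1 : s ∈ (⊥ : Subgroup G) ⊔ zpowers t := by rw [bot_sup_eq]; exact hs
  obtain ⟨w, hw, h2⟩ := ti_mem_sup (⊥ : Subgroup G) t htt
    (by intro w hw; rw [mem_bot.1 hw, mul_one, one_mul]) h1
  rw [mem_bot.1 hw] at h2
  rcases h2 with h2 | h2
  · exact Or.inl h2
  · exact Or.inr (by rw [h2, one_mul])

/-- BSWH. -/
theorem Ctx.bsw [Fact p.Prime] (C : Ctx G p Q g) (hp3 : p = 3) (t : G) (ht : t ∈ Q) (ht1 : t ≠ 1)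
    (P : Sylow p G) (hP1 : (P : Subgroup G) ≠ ⊥)
    (hQP : (Q : Subgroup G) ≤ normalizer ((P : Subgroup G) : Set G))
    (htP : ∀ w ∈ P, t * w = w * t)
    (hinv : ∀ u ∈ Q, u ≠ 1 → u ≠ t → ∀ w ∈ P, u * w * u⁻¹ = w⁻¹) :
    ∃ Q' D : Subgroup G, 2 * Nat.card G = Nat.card ↥Q' * (Nat.card ↥Q' + 1) * (Nat.card ↥Q' - 1) ∧
      (∀ x ∈ Q', x ≠ 1 → centralizer ({x} : Set G) = Q') ∧
      IsMulCommutative ↥D ∧ 2 * Nat.card ↥D + 1 = Nat.card ↥Q' ∧ Q' ⊓ D = ⊥ ∧
      normalizer (Q' : Set G) = Q' ⊔ D ∧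
      ∀ X : Subgroup G, X ≤ D → X ≠ ⊥ →
        normalizer (X : Set G) = normalizer (D : Set G) ∧
        ∃ u : G, orderOf u = 2 ∧ u ∉ D ∧ (∀ d ∈ D, u * d * u⁻¹ = d⁻¹) ∧
          normalizer (D : Set G) = D ⊔ zpowers u := by
  obtain ⟨hexp, hQab, hconj⟩ := C.elem
  have htt : t * t = 1 := by rw [← sq]; exact hexp t ht
  have htinv : t⁻¹ = t := inv_eq_of_mul_eq_one_left htt
  have hPab := C.ab P
  have hodd := bswh_odd C.hp2 P
  obtain ⟨hCt, -⟩ := C.ct_eq t ht ht1 P hP1 hQP htP
  have hot : orderOf t = 2 := orderOf_eq_prime (hexp t ht) ht1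
  have hQ4 : Nat.card (Q : Subgroup G) = 4 := by
    have := C.card
    rw [hp3] at this
    exact this
  have hzt : Nat.card (zpowers t) = 2 := by rw [Nat.card_zpowers, hot]
  -- the element s
  have hs : ∃ s ∈ Q, s ≠ 1 ∧ s ≠ t := by
    by_contra hcon
    have hle : (Q : Subgroup G) ≤ zpowers t := by
      intro s hs
      by_cases h1 : s = 1
      · rw [h1]; exact one_mem _
      by_cases h2 : s = t
      · rw [h2]; exact mem_zpowers t
      · exact absurd ⟨s, hs, h1, h2⟩ hcon
    have := Subgroup.card_le_of_le hle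
    rw [hQ4, hzt] at this
    omega
  obtain ⟨s, hsQ, hs1, hst⟩ := hs
  have hss : s * s = 1 := by rw [← sq]; exact hexp s hsQ
  have hos : orderOf s = 2 := orderOf_eq_prime (hexp s hsQ) hs1
  have hsw := hinv s hsQ hs1 hst
  have hsts : s * t * s⁻¹ = t := by
    rw [hQab s hsQ t ht, mul_assoc, mul_inv_cancel, mul_one]
  set K := (P : Subgroup G) ⊔ zpowers t with hK
  have hmem : ∀ k ∈ K, ∃ w ∈ P, k = w ∨ k = w * t := fun k hk =>
    ti_mem_sup (P : Subgroup G) t htt htP hk
  have hKab : IsMulCommutative ↥K := by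
    refine ⟨⟨fun a b => Subtype.ext ?_⟩⟩
    obtain ⟨w1, h1, ha⟩ := hmem a.1 a.2
    obtain ⟨w2, h2, hb⟩ := hmem b.1 b.2
    have c12 : Commute w1 w2 := hPab w1 h1 w2 h2
    have ct1 : Commute t w1 := htP w1 h1
    have ct2 : Commute t w2 := htP w2 h2
    have ctt : Commute t t := Commute.refl t
    change (a : G) * (b : G) = (b : G) * (a : G)
    rcases ha with ha | ha <;> rcases hb with hb | hb <;> rw [ha, hb]
    · exact c12
    · exact (c12.mul_right ct1.symm)
    · exact (c12.mul_left ct2)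
    · exact ((c12.mul_right ct1.symm).mul_left (ct2.mul_right ctt))
  have hKH : K ≤ centralizer ({t} : Set G) := by
    apply sup_le
    · intro w hw
      rw [mem_centralizer_singleton_iff]
      exact (htP w hw).symm
    · rw [zpowers_le, mem_centralizer_singleton_iff]
  have htK : t ∈ K := le_sup_right (a := (P : Subgroup G)) (mem_zpowers t)
  have hsH : s ∈ centralizer ({t} : Set G) := by
    rw [mem_centralizer_singleton_iff]
    exact hQab s hsQ t ht
  have hsK : s ∉ K := by
    intro hsK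
    obtain ⟨w, hw, hk⟩ := hmem s hsK
    have h1 := ti_sq (P : Subgroup G) t htt htP hw hk
    rw [hss] at h1
    have hw1 := hodd w hw h1.symm
    rw [hw1] at hk
    rcases hk with hk | hk
    · exact hs1 hk
    · exact hst (by rw [hk, one_mul])
  have hH : K ⊔ zpowers s = centralizer ({t} : Set G) := by
    rw [hCt]
    apply le_antisymm
    · apply sup_le
      · apply sup_le le_sup_left
        exact le_trans ((zpowers_le).2 ht) le_sup_right
      · exact le_trans ((zpowers_le).2 hsQ) le_sup_right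
    · apply sup_le
      · exact le_trans le_sup_left le_sup_left
      · set B := zpowers t ⊔ zpowers s with hB
        have hBQ : B ≤ (Q : Subgroup G) := sup_le ((zpowers_le).2 ht) ((zpowers_le).2 hsQ)
        have hd1 : Nat.card B ∣ 4 := hQ4 ▸ Subgroup.card_dvd_of_le hBQ
        have hd2 : 2 ∣ Nat.card B := hzt ▸ Subgroup.card_dvd_of_le (le_sup_left : zpowers t ≤ B)
        have hne2 : Nat.card B ≠ 2 := by
          intro h2
          have : zpowers t = B := Subgroup.eq_of_le_of_card_ge le_sup_left (by rw [h2, hzt])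
          have hsB : s ∈ zpowers t := this ▸ (le_sup_right (a := zpowers t) (mem_zpowers s))
          rcases bswh_zpowers t htt hsB with h | h
          · exact hs1 h
          · exact hst h
        have hB4 : Nat.card B = 4 := by
          have hle : Nat.card B ≤ 4 := Nat.le_of_dvd (by norm_num) hd1
          have hpos : 0 < Nat.card B := Nat.card_pos
          interval_cases h : Nat.card B <;> omega
        have hBeq : B = (Q : Subgroup G) := Subgroup.eq_of_le_of_card_ge hBQ (by rw [hB4, hQ4])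
        rw [← hBeq]
        apply sup_le
        · exact le_trans le_sup_right le_sup_left
        · exact le_sup_right
  have hinvK : ∀ x ∈ K, s * x * s⁻¹ = x⁻¹ := by
    intro x hx
    obtain ⟨w, hw, hk⟩ := hmem x hx
    rcases hk with hk | hk <;> rw [hk]
    · exact hsw w hw
    · have h1 : s * (w * t) * s⁻¹ = (s * w * s⁻¹) * (s * t * s⁻¹) := by group
      rw [h1, hsw w hw, hsts, mul_inv_rev, htinv, htP _ (P.inv_mem hw)]
  have hCK : K ⊓ centralizer ({s} : Set G) = zpowers t := by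
    apply le_antisymm
    · intro k hk
      obtain ⟨hkK, hkC⟩ := mem_inf.1 hk
      rw [mem_centralizer_singleton_iff] at hkC
      have h1 : s * k * s⁻¹ = k := by rw [← hkC, mul_assoc, mul_inv_cancel, mul_one]
      rw [hinvK k hkK] at h1
      have hkk : k * k = 1 := by
        calc k * k = k * k⁻¹ := by rw [h1]
          _ = 1 := mul_inv_cancel k
      obtain ⟨w, hw, hkw⟩ := hmem k hkK
      have h2 := ti_sq (P : Subgroup G) t htt htP hw hkw
      rw [hkk] at h2
      have hw1 := hodd w hw h2.symm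
      rw [hw1] at hkw
      rcases hkw with h | h
      · rw [h]; exact one_mem _
      · rw [h, one_mul]; exact mem_zpowers t
    · rw [zpowers_le]
      refine mem_inf.2 ⟨htK, ?_⟩
      rw [mem_centralizer_singleton_iff]
      exact hQab t ht s hsQ
  exact Cfsg.Agent.S3282.result t hot K hKab hKH htK s hos hsH hsK hH hCK hinvK
    (C.ti hp3 t ht ht1 P hP1 hQP htP hinv) hconj

end Cfsg.Agent.Lib.Helper37.MIX
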