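import Mathlib
import Cfsg.Agent.Lib.Helper37.MIX.Defs

set_option autoImplicit false

namespace Cfsg.Agent.Lib.Helper37.MIX

open Subgroup

variable {G : Type*} [Group G] [Finite G] {p q : ℕ}

/-- BURN. -/
theorem burnside_sub (Q : Sylow 2 G) (hab : ∀ x ∈ Q, ∀ y ∈ Q, x * y = y * x) (L : Subgroup G)
    (hQL : (Q : Subgroup G) ≤ L)
    (hN : ∀ h ∈ L, h ∈ normalizer ((Q : Subgroup G) : Set G) → h ∈ centralizer ((Q : Subgroup G) : Set G)) :
    ∃ Y : Subgroup G, Y ≤ L ∧ L ≤ normalizer (Y : Set G) ∧ ¬ 2 ∣ Nat.card Y ∧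
      Y ⊔ (Q : Subgroup G) = L ∧ ∀ y ∈ L, Odd (orderOf y) → y ∈ Y := by
  have : Fact (Nat.Prime 2) := ⟨Nat.prime_two⟩
  have hcoe : ((Q.subtype hQL : Sylow 2 L) : Subgroup L) = (Q : Subgroup G).subgroupOf L := rfl
  have hP : normalizer (((Q.subtype hQL : Sylow 2 L) : Subgroup L) : Set L) ≤
      centralizer (((Q.subtype hQL : Sylow 2 L) : Subgroup L) : Set L) := by
    intro h hh
    have h1 : (h : G) ∈ normalizer ((Q : Subgroup G) : Set G) := by
      rw [Subgroup.mem_normalizer_iff] at hh ⊢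
      intro n
      constructor
      · intro hn
        have := (hh ⟨n, hQL hn⟩).1 (by rw [hcoe, Subgroup.mem_subgroupOf]; exact hn)
        rw [hcoe, Subgroup.mem_subgroupOf] at this
        exact this
      · intro hn
        have hnL : n ∈ L := by
          have h2 : n = (h : G)⁻¹ * ((h : G) * n * (h : G)⁻¹) * (h : G) := by group
          rw [h2]
          exact L.mul_mem (L.mul_mem (L.inv_mem h.2) (hQL hn)) h.2
        have := (hh ⟨n, hnL⟩).2 (by rw [hcoe, Subgroup.mem_subgroupOf]; exact hn)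
        rw [hcoe, Subgroup.mem_subgroupOf] at this
        exact this
    have h2 := hN h h.2 h1
    rw [Subgroup.mem_centralizer_iff] at h2 ⊢
    intro x hx
    apply Subtype.ext
    exact h2 x (by
      have : x ∈ (Q : Subgroup G).subgroupOf L := hx
      exact Subgroup.mem_subgroupOf.1 this)
  have hc := MonoidHom.ker_transferSylow_isComplement' (Q.subtype hQL) hP
  refine ⟨(MonoidHom.transferSylow (Q.subtype hQL) hP).ker.map L.subtype, Subgroup.map_subtype_le _,
    ?_, ?_, ?_, ?_⟩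
  · have h1 := Subgroup.le_normalizer_map (H := (MonoidHom.transferSylow (Q.subtype hQL) hP).ker) L.subtype
    rw [Subgroup.normalizer_eq_top, ← MonoidHom.range_eq_map, Subgroup.range_subtype] at h1
    exact h1
  · rw [Nat.card_congr (Subgroup.equivMapOfInjective _ L.subtype L.subtype_injective).symm.toEquiv,
      ← hc.index_eq_card]
    exact (Q.subtype hQL).not_dvd_index
  · have h1 := congrArg (Subgroup.map L.subtype) hc.sup_eq_top
    have h2 : Subgroup.map L.subtype ((Q.subtype hQL : Sylow 2 L) : Subgroup L) = (Q : Subgroup G) :=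
      Subgroup.map_subgroupOf_eq_of_le hQL
    rw [Subgroup.map_sup, h2, ← MonoidHom.range_eq_map, Subgroup.range_subtype] at h1
    exact h1
  · intro y hy hodd
    refine ⟨⟨y, hy⟩, ?_, rfl⟩
    rw [SetLike.mem_coe, MonoidHom.mem_ker]
    have h1 : orderOf (MonoidHom.transferSylow (Q.subtype hQL) hP ⟨y, hy⟩) ∣ orderOf y := by
      have h5 := orderOf_map_dvd (MonoidHom.transferSylow (Q.subtype hQL) hP) (⟨y, hy⟩ : L)
      have h6 : orderOf (⟨y, hy⟩ : L) = orderOf y := Subgroup.orderOf_mk y hy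
      rw [h6] at h5
      exact h5
    obtain ⟨k, hk⟩ := (Q.subtype hQL).2 (MonoidHom.transferSylow (Q.subtype hQL) hP ⟨y, hy⟩)
    have h2 := orderOf_dvd_of_pow_eq_one hk
    have h3 : Nat.Coprime (orderOf y) (2 ^ k) := (Nat.Coprime.pow_right k hodd.coprime_two_right)
    have h4 := Nat.eq_one_of_dvd_coprimes h3 h1 h2
    exact orderOf_eq_one_iff.1 h4

end Cfsg.Agent.Lib.Helper37.MIX
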