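import Mathlib
import Cfsg.Agent.Lib.Helper37.MIX.Defs

set_option autoImplicit false

namespace Cfsg.Agent.Lib.Helper37.MIX

open Subgroup

variable {G : Type*} [Group G] [Finite G] {p q : ℕ}

theorem nqr_relIndex_sup {H N : Subgroup G} (hLE : H ≤ normalizer (N : Set G)) :
    N.relIndex (H ⊔ N) = N.relIndex H := by
  letI := Subgroup.normal_subgroupOf_of_le_normalizer hLE
  letI := Subgroup.normal_subgroupOf_sup_of_le_normalizer hLE
  exact Nat.card_congr (QuotientGroup.quotientInfEquivProdNormalizerQuotient H N hLE).toEquiv.symm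

/-- NQR1. -/
theorem card_sup_zpowers_dvd (A : Subgroup G) (x : G) (hx : x ∈ normalizer (A : Set G)) :
    Nat.card ↥(A ⊔ zpowers x) ∣ Nat.card A * orderOf x := by
  have hle : zpowers x ≤ normalizer (A : Set G) := (zpowers_le).2 hx
  have h1 := nqr_relIndex_sup hle
  have h2 := Subgroup.relIndex_mul_relIndex ⊥ A (zpowers x ⊔ A) bot_le le_sup_right
  rw [Subgroup.relIndex_bot_left, Subgroup.relIndex_bot_left, h1] at h2
  rw [sup_comm, ← h2, ← Nat.card_zpowers]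
  exact Nat.mul_dvd_mul_left _ (Subgroup.relIndex_dvd_card _ _)

theorem nqr_aux (h : Hyp G p q) (H : Subgroup G) (hp' : ¬ p ∣ Nat.card H) (hq' : q ∣ Nat.card H)
    (l : ℕ) (hl : l.Prime) (hlq : l ≠ q) (hlH : l ∣ Nat.card H) : False := by
  have hne : H ≠ ⊤ := by
    rintro rfl
    exact hp' (by rw [Subgroup.card_top]; exact h.hpG)
  have hnp : ¬ IsPGroup q H := by
    intro hH
    haveI := Fact.mk h.hq
    obtain ⟨n, hn⟩ := IsPGroup.iff_card.1 hH
    rw [hn] at hlH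
    exact hlq ((Nat.prime_dvd_prime_iff_eq hl h.hq).1 (hl.dvd_of_dvd_pow hlH))
  exact hp' (h.hmix H hne hnp hq')

/-- a nontrivial `l`-group has order divisible by `l`, and its order is a power of `l` -/
theorem nqr_card {l : ℕ} (hl : l.Prime) (R : Subgroup G) (hR : IsPGroup l R) (hne : R ≠ ⊥) :
    l ∣ Nat.card R ∧ ∃ k, Nat.card R = l ^ k := by
  haveI := Fact.mk hl
  obtain ⟨k, hk⟩ := IsPGroup.iff_card.1 hR
  refine ⟨?_, k, hk⟩
  rw [hk]
  rcases Nat.eq_zero_or_pos k with rfl | hk0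
  · exfalso
    rw [pow_zero] at hk
    exact hne ((Subgroup.card_eq_one).1 hk)
  · exact dvd_pow_self l hk0.ne'

/-- NQR2. -/
theorem Hyp.nq (h : Hyp G p q) (Q0 : Subgroup G) (hQ0 : IsPGroup q Q0) (hne : Q0 ≠ ⊥) :
    PQ p q (Nat.card ↥(normalizer (Q0 : Set G))) := by
  intro l hl hdvd
  by_contra hcon
  push Not at hcon
  obtain ⟨hlp, hlq⟩ := hcon
  haveI := Fact.mk hl
  obtain ⟨x, hx⟩ := exists_prime_orderOf_dvd_card' (G := ↥(normalizer (Q0 : Set G))) l hdvd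
  have hxo : orderOf (x : G) = l := by rw [Subgroup.orderOf_coe, hx]
  obtain ⟨hq1, k, hk⟩ := nqr_card h.hq Q0 hQ0 hne
  have hd := card_sup_zpowers_dvd Q0 (x : G) x.2
  rw [hxo, hk] at hd
  apply nqr_aux h (Q0 ⊔ zpowers (x : G)) ?_ ?_ l hl hlq ?_
  · intro hp'
    rcases (Nat.Prime.dvd_mul h.hp).1 (hp'.trans hd) with h1 | h1
    · exact h.hpq ((Nat.prime_dvd_prime_iff_eq h.hp h.hq).1 (h.hp.dvd_of_dvd_pow h1))
    · exact hlp ((Nat.prime_dvd_prime_iff_eq h.hp hl).1 h1).symm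
  · exact hq1.trans (Subgroup.card_dvd_of_le le_sup_left)
  · rw [← hxo, ← Nat.card_zpowers]
    exact Subgroup.card_dvd_of_le le_sup_right

/-- NQR3. -/
theorem Hyp.nr (h : Hyp G p q) (l : ℕ) (hl : l.Prime) (hlp : l ≠ p) (hlq : l ≠ q) (R : Subgroup G)
    (hR : IsPGroup l R) (hne : R ≠ ⊥) : ¬ q ∣ Nat.card ↥(normalizer (R : Set G)) := by
  intro hdvd
  haveI := Fact.mk h.hq
  obtain ⟨y, hy⟩ := exists_prime_orderOf_dvd_card' (G := ↥(normalizer (R : Set G))) q hdvd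
  have hyo : orderOf (y : G) = q := by rw [Subgroup.orderOf_coe, hy]
  obtain ⟨hl1, k, hk⟩ := nqr_card hl R hR hne
  have hd := card_sup_zpowers_dvd R (y : G) y.2
  rw [hyo, hk] at hd
  apply nqr_aux h (R ⊔ zpowers (y : G)) ?_ ?_ l hl hlq ?_
  · intro hp'
    rcases (Nat.Prime.dvd_mul h.hp).1 (hp'.trans hd) with h1 | h1
    · exact hlp ((Nat.prime_dvd_prime_iff_eq h.hp hl).1 (h.hp.dvd_of_dvd_pow h1)).symm
    · exact h.hpq ((Nat.prime_dvd_prime_iff_eq h.hp h.hq).1 h1)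
  · rw [← hyo, ← Nat.card_zpowers]
    exact Subgroup.card_dvd_of_le le_sup_right
  · exact hl1.trans (Subgroup.card_dvd_of_le le_sup_left)

end Cfsg.Agent.Lib.Helper37.MIX
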