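import Mathlib
import Cfsg.Agent.Lib.Helper37.MIX.Defs

set_option autoImplicit false

namespace Cfsg.Agent.Lib.Helper37.MIX

open Subgroup

variable {G : Type*} [Group G] [Finite G] {p q : ℕ}

omit [Finite G] in
theorem orb_iter (g x : G) (i : ℕ) : (fun y => g * y * g⁻¹)^[i] x = g ^ i * x * (g ^ i)⁻¹ := by
  induction i with
  | zero => simp
  | succ i ih =>
    rw [Function.iterate_succ_apply', ih]
    simp only [pow_succ', mul_inv_rev]
    group

/-- ORB (pure). `⟨g⟩` acts on `Q0 \ {1}` by conjugation; orbit sizes are powers of `p`; some `x` is moved, its orbit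
has `≥ p` elements inside `Q0 \ {1}`. If `|Q0| = p+1` this orbit is all of `Q0 \ {1}`. -/
theorem orb (hp : p.Prime) (Q0 : Subgroup G) (g : G) (hg : g ∈ normalizer (Q0 : Set G))
    (hgp : ∃ k : ℕ, orderOf g = p ^ k) (hgc : g ∉ centralizer (Q0 : Set G)) :
    p + 1 ≤ Nat.card Q0 ∧ (Nat.card Q0 = p + 1 →
      ∀ x ∈ Q0, x ≠ 1 → ∀ y ∈ Q0, y ≠ 1 → ∃ i : ℕ, g ^ i * x * (g ^ i)⁻¹ = y) := by
  classical
  obtain ⟨k, hk⟩ := hgp
  have hex : ∃ x0 ∈ Q0, g * x0 * g⁻¹ ≠ x0 := by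
    by_contra hcon
    push Not at hcon
    apply hgc
    rw [mem_centralizer_iff]
    intro h hh
    have := hcon h hh
    calc h * g = (g * h * g⁻¹) * g := by rw [this]
      _ = g * h := by group
  obtain ⟨x0, hx0, hmove⟩ := hex
  have hper : Function.IsPeriodicPt (fun y => g * y * g⁻¹) (p ^ k) x0 := by
    show (fun y => g * y * g⁻¹)^[p ^ k] x0 = x0
    rw [orb_iter, ← hk, pow_orderOf_eq_one]
    simp
  obtain ⟨d, hd⟩ : ∃ d, d = Function.minimalPeriod (fun y => g * y * g⁻¹) x0 := ⟨_, rfl⟩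
  have hdvd : d ∣ p ^ k := hd ▸ hper.minimalPeriod_dvd
  have hd1 : d ≠ 1 := by
    intro h
    rw [hd] at h
    exact hmove (Function.minimalPeriod_eq_one_iff_isFixedPt.1 h)
  have hpd : p ≤ d := by
    obtain ⟨j, _, hj⟩ := (Nat.dvd_prime_pow hp).1 hdvd
    have hj0 : j ≠ 0 := by
      rintro rfl
      exact hd1 (by rw [hj, pow_zero])
    rw [hj]
    calc p = p ^ 1 := (pow_one p).symm
      _ ≤ p ^ j := Nat.pow_le_pow_right hp.pos (Nat.one_le_iff_ne_zero.2 hj0)
  have hx01 : x0 ≠ 1 := by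
    rintro rfl
    exact hmove (by simp)
  obtain ⟨T, hT⟩ : ∃ T : Finset G, T = (Finset.range d).image (fun i => g ^ i * x0 * (g ^ i)⁻¹) :=
    ⟨_, rfl⟩
  have hTcard : T.card = d := by
    rw [hT, Finset.card_image_of_injOn, Finset.card_range]
    intro a ha b hb hab
    simp only [← orb_iter] at hab
    have ha' : a ∈ Set.Iio (Function.minimalPeriod (fun y => g * y * g⁻¹) x0) := by
      rw [← hd]; simpa using ha
    have hb' : b ∈ Set.Iio (Function.minimalPeriod (fun y => g * y * g⁻¹) x0) := by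
      rw [← hd]; simpa using hb
    exact Function.iterate_injOn_Iio_minimalPeriod ha' hb' hab
  have hTQ : ∀ y ∈ T, y ∈ Q0 ∧ y ≠ 1 := by
    intro y hy
    rw [hT] at hy
    obtain ⟨i, _, rfl⟩ := Finset.mem_image.1 hy
    constructor
    · exact (mem_normalizer_iff.1 (pow_mem hg i) x0).1 hx0
    · intro h
      exact hx01 (conj_eq_one_iff.1 h)
  have h1T : (1 : G) ∉ T := fun h => (hTQ 1 h).2 rfl
  have hsub : ((insert 1 T : Finset G) : Set G) ⊆ (Q0 : Set G) := by
    intro y hy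
    rcases Finset.mem_insert.1 (Finset.mem_coe.1 hy) with rfl | h
    · exact Q0.one_mem
    · exact (hTQ y h).1
  have hcard : (insert 1 T : Finset G).card = d + 1 := by
    rw [Finset.card_insert_of_notMem h1T, hTcard]
  have hQn : Nat.card Q0 = (Q0 : Set G).ncard := Nat.card_coe_set_eq _
  have hle : d + 1 ≤ Nat.card Q0 := by
    rw [← hcard, ← Set.ncard_coe_finset, hQn]
    exact Set.ncard_le_ncard hsub (Set.toFinite _)
  refine ⟨by omega, fun hQ x hx hx1 y hy hy1 => ?_⟩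
  have heq : ((insert 1 T : Finset G) : Set G) = (Q0 : Set G) :=
    Set.eq_of_subset_of_ncard_le hsub (by rw [Set.ncard_coe_finset, hcard, ← hQn, hQ]; omega)
      (Set.toFinite _)
  have hmem : ∀ z ∈ Q0, z ≠ 1 → ∃ i : ℕ, g ^ i * x0 * (g ^ i)⁻¹ = z := by
    intro z hz hz1
    have : z ∈ ((insert 1 T : Finset G) : Set G) := by rw [heq]; exact hz
    rcases Finset.mem_insert.1 (Finset.mem_coe.1 this) with h | h
    · exact absurd h hz1
    · rw [hT] at h
      obtain ⟨i, _, hi⟩ := Finset.mem_image.1 h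
      exact ⟨i, hi⟩
  obtain ⟨i, hi⟩ := hmem x hx hx1
  obtain ⟨j, hj⟩ := hmem y hy hy1
  obtain ⟨m, hm⟩ : ∃ m : ℕ, g ^ m = g ^ j * (g ^ i)⁻¹ := by
    have : g ^ j * (g ^ i)⁻¹ ∈ Subgroup.zpowers g :=
      mul_mem (pow_mem (mem_zpowers g) j) (inv_mem (pow_mem (mem_zpowers g) i))
    exact Submonoid.mem_powers_iff _ _ |>.1 (mem_powers_iff_mem_zpowers.2 this)
  refine ⟨m, ?_⟩
  rw [hm, ← hi, ← hj]
  group

end Cfsg.Agent.Lib.Helper37.MIX
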