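import Mathlib
import Cfsg.Agent.Lib.Helper37.MIX.Defs
import Cfsg.Agent.Lib.Helper37.MIX.NQR
import Cfsg.Agent.Lib.Helper37.MIX.ORB
import Cfsg.Agent.Lib.Helper37.MIX.ELEM
import Cfsg.Agent.Lib.Helper37.MIX.BURN
import Cfsg.Agent.Lib.Helper31.Nilpotent

set_option autoImplicit false

namespace Cfsg.Agent.Lib.Helper37.MIX

open Subgroup

variable {G : Type*} [Group G] [Finite G] {p q : ℕ}
variable {Q : Sylow 2 G} {g : G}

theorem cent_three_le (C : Ctx G p Q g) : 3 ≤ p := by
  have h1 := C.hp.two_le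
  have h2 := C.hp2
  omega

theorem cent_card_Q (C : Ctx G p Q g) : 2 ∣ Nat.card Q ∧ ∃ k, Nat.card Q = 2 ^ k := by
  have : Fact (Nat.Prime 2) := ⟨Nat.prime_two⟩
  obtain ⟨k, hk⟩ := IsPGroup.iff_card.1 Q.2
  refine ⟨?_, k, hk⟩
  rw [hk]
  rcases Nat.eq_zero_or_pos k with rfl | hk0
  · exfalso
    have h1 := C.card
    have h2 := cent_three_le C
    have h3 : Nat.card Q = 1 := by rw [hk, pow_zero]
    omega
  · exact dvd_pow_self 2 hk0.ne'

/-- a number dividing a power of two satisfies `PQ p 2` -/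
theorem cent_pq_of_dvd_two_pow {n k : ℕ} (h : n ∣ 2 ^ k) : PQ p 2 n := by
  intro l hl hln
  right
  exact (Nat.prime_dvd_prime_iff_eq hl Nat.prime_two).1 (hl.dvd_of_dvd_pow (hln.trans h))

theorem cent_pow_of_pq (hp : p.Prime) {n : ℕ} (hn : n ≠ 0) (h : PQ p 2 n) (h2 : ¬ 2 ∣ n) :
    ∃ k, n = p ^ k := by
  refine ⟨_, Nat.eq_prime_pow_of_unique_prime_dvd hn ?_⟩
  intro d hd hdn
  rcases h d hd hdn with h3 | h3
  · exact h3
  · exact absurd (h3 ▸ hdn) h2

theorem cent_normalizer_ne_top (C : Ctx G p Q g) : normalizer ((Q : Subgroup G) : Set G) ≠ ⊤ := by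
  intro htop
  have hn : (Q : Subgroup G).Normal := Subgroup.normalizer_eq_top_iff.1 htop
  obtain ⟨h2, k, hk⟩ := cent_card_Q C
  rcases C.simple _ hn with h | h
  · have h1 : Nat.card (Q : Subgroup G) = 1 := by rw [h]; exact Subgroup.card_bot
    have h3 := C.card
    have h4 := cent_three_le C
    have h5 : Nat.card Q = 1 := h1
    omega
  · apply C.bad
    have h1 : Nat.card (Q : Subgroup G) = Nat.card G := by rw [h]; exact Subgroup.card_top
    have h5 : Nat.card Q = Nat.card G := h1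
    rw [← h5, hk]
    exact cent_pq_of_dvd_two_pow (dvd_refl _)

/-- FIX. -/
theorem Ctx.fix (C : Ctx G p Q g) (t : G) (ht : t ∈ Q) (ht1 : t ≠ 1) (h : G)
    (hh : h ∈ normalizer ((Q : Subgroup G) : Set G)) (hht : h * t = t * h) :
    h ∈ centralizer ((Q : Subgroup G) : Set G) := by
  have : Fact (Nat.Prime 2) := ⟨Nat.prime_two⟩
  obtain ⟨hQ2, kQ, hkQ⟩ := cent_card_Q C
  obtain ⟨-, hab, -⟩ := C.elem
  have hPQ : PQ p 2 (Nat.card ↥(normalizer ((Q : Subgroup G) : Set G))) :=
    C.sub _ (cent_normalizer_ne_top C) (hQ2.trans (Subgroup.card_dvd_of_le Subgroup.le_normalizer))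
  obtain ⟨a, ha, b, hb, hab', ⟨ka, hka⟩, hbc⟩ :=
    Cfsg.Agent.Lib.Helper31.exists_prime_decomp 2 h (isOfFinOrder_of_finite h)
  have hzN : zpowers h ≤ normalizer ((Q : Subgroup G) : Set G) := (zpowers_le).2 hh
  have haN := hzN ha
  have hbN := hzN hb
  -- `a ∈ Q`
  have haQ : a ∈ (Q : Subgroup G) := by
    have hd := card_sup_zpowers_dvd (Q : Subgroup G) a haN
    have hkQ' : Nat.card (Q : Subgroup G) = 2 ^ kQ := hkQ
    rw [hka, hkQ', ← pow_add] at hd
    obtain ⟨j, -, hj⟩ := (Nat.dvd_prime_pow Nat.prime_two).1 hd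
    have hpg : IsPGroup 2 ↥((Q : Subgroup G) ⊔ zpowers a) := IsPGroup.of_card hj
    have := Q.3 hpg le_sup_left
    rw [← this]
    exact (le_sup_right : zpowers a ≤ _) (mem_zpowers a)
  have haC : a ∈ centralizer ((Q : Subgroup G) : Set G) := by
    rw [Subgroup.mem_centralizer_iff]
    intro x hx
    exact hab x hx a haQ
  -- `b`
  have hbt : b * t = t * b := by
    obtain ⟨i, rfl⟩ := Subgroup.mem_zpowers_iff.1 hb
    exact ((Commute.zpow_left (show Commute h t from hht) i)).eq
  have hbo : ∃ k, orderOf b = p ^ k := by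
    apply cent_pow_of_pq C.hp (orderOf_pos b).ne'
    · intro l hl hlb
      apply hPQ l hl
      have h1 : orderOf (⟨b, hbN⟩ : ↥(normalizer ((Q : Subgroup G) : Set G))) = orderOf b :=
        Subgroup.orderOf_mk b hbN
      rw [← h1] at hlb
      exact hlb.trans (orderOf_dvd_natCard _)
    · intro h2
      have := Nat.Coprime.eq_one_of_dvd hbc.symm h2
      omega
  have hbC : b ∈ centralizer ((Q : Subgroup G) : Set G) := by
    by_contra hbc'
    obtain ⟨-, htr⟩ := orb C.hp (Q : Subgroup G) b hbN hbo hbc'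
    have htr' := htr C.card t ht ht1
    have hall : ∀ y ∈ (Q : Subgroup G), y ≠ 1 → y = t := by
      intro y hy hy1
      obtain ⟨i, hi⟩ := htr' y hy hy1
      have h3 : Commute (b ^ i) t := Commute.pow_left (show Commute b t from hbt) i
      rw [h3.eq, mul_assoc, mul_inv_cancel, mul_one] at hi
      exact hi.symm
    classical
    have hinj : Function.Injective (fun x : (Q : Subgroup G) => decide ((x : G) = 1)) := by
      intro x y hxy
      apply Subtype.ext
      by_cases hx : (x : G) = 1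
      · have hy : (y : G) = 1 := by
          have : decide ((x : G) = 1) = decide ((y : G) = 1) := hxy
          simpa [hx] using this
        rw [hx, hy]
      · have hy : (y : G) ≠ 1 := by
          have : decide ((x : G) = 1) = decide ((y : G) = 1) := hxy
          intro hy
          simp [hx, hy] at this
        rw [hall x x.2 hx, hall y y.2 hy]
    have hle := Nat.card_le_card_of_injective _ hinj
    have h4 : Nat.card Bool = 2 := by simp
    have h5 := C.card
    have h6 := cent_three_le C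
    have h7 : Nat.card (Q : Subgroup G) = p + 1 := h5
    omega
  rw [hab']
  exact mul_mem haC hbC

/-- CENT. -/
theorem Ctx.cent (C : Ctx G p Q g) (t : G) (ht : t ∈ Q) (ht1 : t ≠ 1) :
    ∃ Y : Subgroup G, Cen p Q t Y := by
  obtain ⟨hQ2, kQ, hkQ⟩ := cent_card_Q C
  obtain ⟨hsq, hab, -⟩ := C.elem
  have hQL : (Q : Subgroup G) ≤ centralizer ({t} : Set G) := by
    intro x hx
    rw [Subgroup.mem_centralizer_singleton_iff]
    exact hab x hx t ht
  have hLtop : centralizer ({t} : Set G) ≠ ⊤ := by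
    intro htop
    have hcomm : ∀ x : G, x * t = t * x := by
      intro x
      have : x ∈ centralizer ({t} : Set G) := by rw [htop]; trivial
      exact Subgroup.mem_centralizer_singleton_iff.1 this
    have hn : (zpowers t).Normal := by
      refine ⟨fun n hn x => ?_⟩
      obtain ⟨i, rfl⟩ := Subgroup.mem_zpowers_iff.1 hn
      have h3 : Commute x (t ^ i) := Commute.zpow_right (show Commute x t from hcomm x) i
      rw [h3.eq, mul_assoc, mul_inv_cancel, mul_one]
      exact Subgroup.zpow_mem_zpowers t i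
    rcases C.simple _ hn with h | h
    · exact ht1 (Subgroup.zpowers_eq_bot.1 h)
    · apply C.bad
      have h1 : Nat.card (zpowers t) = Nat.card G := by rw [h]; exact Subgroup.card_top
      rw [← h1, Nat.card_zpowers]
      exact cent_pq_of_dvd_two_pow (k := 1) (by rw [pow_one]; exact orderOf_dvd_of_pow_eq_one (hsq t ht))
  have hPQ : PQ p 2 (Nat.card ↥(centralizer ({t} : Set G))) :=
    C.sub _ hLtop (hQ2.trans (Subgroup.card_dvd_of_le hQL))
  obtain ⟨Y, hYL, hLN, hY2, hsup, hmem⟩ := burnside_sub Q hab (centralizer ({t} : Set G)) hQL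
    (fun h hhL hhN => C.fix t ht ht1 h hhN (Subgroup.mem_centralizer_singleton_iff.1 hhL))
  refine ⟨Y, ?_, hYL, hLN, hsup, ?_⟩
  · have : Fact p.Prime := ⟨C.hp⟩
    obtain ⟨k, hk⟩ := cent_pow_of_pq C.hp (Nat.card_pos (α := Y)).ne'
      (fun l hl hlY => hPQ l hl (hlY.trans (Subgroup.card_dvd_of_le hYL))) hY2
    exact IsPGroup.of_card hk
  · rintro y hy ⟨k, hk⟩
    apply hmem y hy
    rw [hk]
    exact (C.hp.odd_of_ne_two C.hp2).pow

end Cfsg.Agent.Lib.Helper37.MIX
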