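import Mathlib
import Cfsg.Agent.Lib.Helper37.MIX.Defs

set_option autoImplicit false

namespace Cfsg.Agent.Lib.Helper37.MIX

open Subgroup

variable {G : Type*} [Group G] [Finite G] {p q : ℕ}

theorem four_exists_not_mem (Q : Subgroup G) (S : Set G) (hS : S.Finite) (h : S.ncard < Nat.card Q) :
    ∃ x ∈ Q, x ∉ S := by
  by_contra hcon
  push Not at hcon
  have h1 : (Q : Set G) ⊆ S := fun x hx => hcon x hx
  have h2 := Set.ncard_le_ncard h1 hS
  rw [← Nat.card_coe_set_eq] at h2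
  have h3 : Nat.card (Q : Set G) = Nat.card Q := rfl
  omega

variable {Q : Sylow 2 G} {g : G}

theorem four_sq (C : Ctx G p Q g) : ∀ x ∈ Q, x * x = 1 := by
  have h2 : 2 ∣ Nat.card (Q : Subgroup G) := by
    have h1 : Nat.card (Q : Subgroup G) = p + 1 := C.card
    rw [h1]
    have := C.hp.eq_two_or_odd'.resolve_left C.hp2
    obtain ⟨m, hm⟩ := this
    exact ⟨m + 1, by omega⟩
  haveI : Fact (Nat.Prime 2) := ⟨Nat.prime_two⟩
  obtain ⟨x0, hx0⟩ := exists_prime_orderOf_dvd_card' 2 h2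
  have hx01 : (x0 : G) ≠ 1 := by
    intro h
    have : x0 = 1 := Subtype.ext h
    rw [this, orderOf_one] at hx0
    omega
  have hx02 : (x0 : G) * x0 = 1 := by
    have := pow_orderOf_eq_one x0
    rw [hx0, pow_two] at this
    exact congrArg Subtype.val this
  intro y hy
  by_cases hy1 : y = 1
  · rw [hy1, one_mul]
  · obtain ⟨i, hi⟩ := C.trans x0 x0.2 hx01 y hy hy1
    rw [← hi]
    calc g ^ i * x0 * (g ^ i)⁻¹ * (g ^ i * x0 * (g ^ i)⁻¹) = g ^ i * ((x0 : G) * x0) * (g ^ i)⁻¹ := by group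
      _ = 1 := by rw [hx02]; group

theorem Ctx.four [Fact p.Prime] (C : Ctx G p Q g) (t : G) (ht : t ∈ Q) (ht1 : t ≠ 1) (P : Sylow p G)
    (hP1 : (P : Subgroup G) ≠ ⊥)
    (hQP : (Q : Subgroup G) ≤ normalizer ((P : Subgroup G) : Set G))
    (hfpf : ∀ u ∈ Q, u ≠ 1 → u ≠ t → ∀ w ∈ P, u * w = w * u → w = 1) :
    p = 3 ∧ (∀ w ∈ P, t * w = w * t) ∧ ∀ u ∈ Q, u ≠ 1 → u ≠ t → ∀ w ∈ P, u * w * u⁻¹ = w⁻¹ := by
  have hsq := four_sq C
  have hinvQ : ∀ x ∈ Q, x⁻¹ = x := fun x hx => inv_eq_of_mul_eq_one_left (hsq x hx)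
  have hnorm : ∀ u ∈ Q, ∀ w ∈ P, u * w * u⁻¹ ∈ P := by
    intro u hu w hw
    exact (mem_normalizer_iff.1 (hQP hu) w).1 hw
  have hinv : ∀ u ∈ Q, u ≠ 1 → u ≠ t → ∀ w ∈ P, u * w * u⁻¹ = w⁻¹ := by
    intro u hu hu1 hut w hw
    have hw' := hnorm u hu w hw
    have hz : w * (u * w * u⁻¹) = 1 := by
      apply hfpf u hu hu1 hut _ (mul_mem hw hw')
      have hc := C.ab P w hw _ hw'
      have huu := hsq u hu
      have e1 : u * (w * (u * w * u⁻¹)) = (u * w * u⁻¹) * ((u * u) * w * u⁻¹) := by group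
      rw [e1, huu, one_mul]
      have e2 : w * (u * w * u⁻¹) * u = w * (u * w) := by group
      rw [e2]
      have e3 : u * w * u⁻¹ * (w * u⁻¹) = (u * w * u⁻¹ * w) * u⁻¹ := by group
      rw [e3, ← hc, hinvQ u hu]
      have e4 : w * (u * w * u) * u = w * (u * w) * (u * u) := by group
      rw [e4, huu, mul_one]
    exact eq_inv_of_mul_eq_one_right hz
  have hcard : Nat.card (Q : Subgroup G) = p + 1 := C.card
  have hp2le := C.hp.two_le
  have hp2 := C.hp2
  refine ⟨?_, ?_, hinv⟩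
  · by_contra h3
    have h4 : p ≠ 4 := by
      intro h
      have := C.hp
      rw [h] at this
      norm_num at this
    obtain ⟨u1, hu1Q, hu1⟩ := four_exists_not_mem (Q : Subgroup G) {1, t} (Set.toFinite _)
      (lt_of_le_of_lt (Set.ncard_insert_le _ _) (by rw [Set.ncard_singleton, hcard]; omega))
    obtain ⟨u2, hu2Q, hu2⟩ := four_exists_not_mem (Q : Subgroup G) {1, t, u1, u1 * t} (Set.toFinite _)
      (by
        have e1 := Set.ncard_insert_le (1 : G) {t, u1, u1 * t}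
        have e2 := Set.ncard_insert_le t {u1, u1 * t}
        have e3 := Set.ncard_insert_le u1 {u1 * t}
        rw [Set.ncard_singleton] at e3
        rw [hcard]; omega)
    simp only [Set.mem_insert_iff, Set.mem_singleton_iff, not_or] at hu1 hu2
    apply hP1
    rw [eq_bot_iff]
    intro w hw
    rw [mem_bot]
    apply hfpf (u1 * u2) (mul_mem hu1Q hu2Q) ?_ ?_ w hw
    · have a1 := hinv u2 hu2Q hu2.1 hu2.2.1 w hw
      have a2 := hinv u1 hu1Q hu1.1 hu1.2 w⁻¹ (inv_mem hw)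
      rw [inv_inv] at a2
      have : u1 * u2 * w * (u1 * u2)⁻¹ = w := by
        have e : u1 * u2 * w * (u1 * u2)⁻¹ = u1 * (u2 * w * u2⁻¹) * u1⁻¹ := by group
        rw [e, a1, a2]
      exact mul_inv_eq_iff_eq_mul.1 this
    · intro h
      apply hu2.2.2.1
      have := eq_inv_of_mul_eq_one_right h
      rw [this, hinvQ u1 hu1Q]
    · intro h
      apply hu2.2.2.2
      have : u2 = u1⁻¹ * t := by rw [← h]; group
      rw [this, hinvQ u1 hu1Q]
  · intro w hw
    obtain ⟨u, huQ, hu⟩ := four_exists_not_mem (Q : Subgroup G) {1, t} (Set.toFinite _)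
      (lt_of_le_of_lt (Set.ncard_insert_le _ _) (by rw [Set.ncard_singleton, hcard]; omega))
    simp only [Set.mem_insert_iff, Set.mem_singleton_iff, not_or] at hu
    have hut1 : u * t ≠ 1 := by
      intro h
      apply hu.2
      have := eq_inv_of_mul_eq_one_left h
      rw [this, hinvQ t ht]
    have hutt : u * t ≠ t := by
      intro h
      exact hu.1 (mul_eq_right.1 h)
    have a1 := hinv (u * t) (mul_mem huQ ht) hut1 hutt w hw
    have a2 := hinv u huQ hu.1 hu.2 (t * w * t⁻¹) (hnorm t ht w hw)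
    have e : u * t * w * (u * t)⁻¹ = u * (t * w * t⁻¹) * u⁻¹ := by group
    rw [e, a2, inv_inj] at a1
    exact mul_inv_eq_iff_eq_mul.1 a1

end Cfsg.Agent.Lib.Helper37.MIX
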