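import Mathlib
import Cfsg.Agent.Lib.Helper37.MIX.Defs
import Cfsg.Agent.Lib.Helper37.MIX.ELEM
import Cfsg.Agent.Lib.Helper37.MIX.HALL
import Cfsg.Agent.Lib.Helper37.MIX.CTE

set_option autoImplicit false

namespace Cfsg.Agent.Lib.Helper37.MIX

open Subgroup

variable {G : Type*} [Group G] [Finite G] {p q : ℕ}

omit [Finite G] in
theorem fpf_le_normalizer (A X : Subgroup G) (h : ∀ a ∈ A, ∀ x ∈ X, a * x * a⁻¹ ∈ X) :
    A ≤ normalizer (X : Set G) := by
  intro a ha
  rw [mem_normalizer_iff]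
  intro x
  constructor
  · exact h a ha x
  · intro hx
    have := h a⁻¹ (inv_mem ha) _ hx
    simpa [mul_assoc] using this

/-- a `p`-subgroup normalizing a Sylow `p`-subgroup lies in it. -/
theorem fpf_le_sylow [Fact p.Prime] (P : Sylow p G) (A : Subgroup G) (hA : IsPGroup p A)
    (hAN : A ≤ normalizer ((P : Subgroup G) : Set G)) : A ≤ (P : Subgroup G) := by
  have h := hA.inf_normalizer_sylow P
  rw [inf_eq_left.2 (show A ≤ normalizer (P : Set G) from hAN)] at h
  rw [h]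
  exact inf_le_right

variable {Q : Sylow 2 G} {g : G}

/-- FPF. -/
theorem Ctx.fpf [Fact p.Prime] (C : Ctx G p Q g) (t : G) (ht : t ∈ Q) (ht1 : t ≠ 1) (Y : Subgroup G)
    (hY : Cen p Q t Y) (P : Sylow p G) (hYP : Y ≤ (P : Subgroup G))
    (hQP : (Q : Subgroup G) ≤ normalizer ((P : Subgroup G) : Set G)) :
    ∀ u ∈ Q, u ≠ 1 → u ≠ t → ∀ w ∈ P, u * w = w * u → w = 1 := by
  intro u hu hu1 hut w hw huw
  by_contra hw1
  haveI : Fact (Nat.Prime 2) := ⟨Nat.prime_two⟩
  obtain ⟨i, hi⟩ := C.trans t ht ht1 u hu hu1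
  obtain ⟨x, hx⟩ : ∃ x, x = g ^ i := ⟨_, rfl⟩
  rw [← hx] at hi
  have hQab := C.elem.2.1
  have hPab := C.ab P
  obtain ⟨X, hX⟩ : ∃ X : Subgroup G, X = (P : Subgroup G) ⊓ centralizer ({u} : Set G) := ⟨_, rfl⟩
  have hmemX : ∀ h, h ∈ X ↔ h ∈ P ∧ h * u = u * h := by
    intro h
    rw [hX, mem_inf, mem_centralizer_singleton_iff]
    rfl
  have hXP : X ≤ (P : Subgroup G) := hX ▸ inf_le_left
  have hX0 : X ≠ ⊥ := by
    intro h0
    have : w ∈ X := (hmemX w).2 ⟨hw, huw.symm⟩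
    rw [h0, mem_bot] at this
    exact hw1 this
  have hX1 : X ≠ ⊤ := by
    intro h1
    apply cte_P_ne_top C P
    rw [← top_le_iff, ← h1]
    exact hXP
  have hPN : (P : Subgroup G) ≤ normalizer (X : Set G) := by
    apply fpf_le_normalizer
    intro a ha h hh
    have : a * h * a⁻¹ = h := by
      rw [hPab a ha h (hXP hh), mul_inv_cancel_right]
    rw [this]
    exact hh
  have hQN : (Q : Subgroup G) ≤ normalizer (X : Set G) := by
    apply fpf_le_normalizer
    intro v hv h hh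
    obtain ⟨hhP, hhu⟩ := (hmemX h).1 hh
    refine (hmemX _).2 ⟨(mem_normalizer_iff.1 (hQP hv) h).1 hhP, ?_⟩
    have hvu : v * u = u * v := hQab v hv u hu
    have hvu' : v⁻¹ * u = u * v⁻¹ := hQab v⁻¹ (inv_mem hv) u hu
    calc v * h * v⁻¹ * u = v * h * (v⁻¹ * u) := by group
      _ = v * (h * u) * v⁻¹ := by rw [hvu']; group
      _ = (v * u) * h * v⁻¹ := by rw [hhu]; group
      _ = u * (v * h * v⁻¹) := by rw [hvu]; group
  have hL : normalizer (X : Set G) = (P : Subgroup G) ⊔ (Q : Subgroup G) :=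
    cte_key C P hQP _ (cte_norm_ne_top C X hX0 hX1) hPN hQN
  have hLN : normalizer (X : Set G) ≤ normalizer ((P : Subgroup G) : Set G) := by
    rw [hL]
    exact sup_le le_normalizer hQP
  -- `x⁻¹ X x ≤ P`
  have hXx : ∀ h ∈ X, x⁻¹ * h * x ∈ P := by
    intro h hh
    obtain ⟨hhP, hhu⟩ := (hmemX h).1 hh
    apply hYP
    apply hY.mem
    · rw [mem_centralizer_singleton_iff]
      have ht' : t = x⁻¹ * u * x := by rw [← hi]; group
      rw [ht']
      calc x⁻¹ * h * x * (x⁻¹ * u * x) = x⁻¹ * (h * u) * x := by group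
        _ = x⁻¹ * u * x * (x⁻¹ * h * x) := by rw [hhu]; group
    · obtain ⟨k, hk⟩ := (IsPGroup.iff_orderOf.1 P.isPGroup') ⟨h, hhP⟩
      refine ⟨k, ?_⟩
      rw [Subgroup.orderOf_mk] at hk
      rw [← hk]
      have := MulEquiv.orderOf_eq (MulAut.conj x⁻¹) h
      rw [MulAut.conj_apply, inv_inv] at this
      exact this
  obtain ⟨A, hA⟩ : ∃ A : Subgroup G, A = (P : Subgroup G).map (MulAut.conj x).toMonoidHom := ⟨_, rfl⟩
  have hmemA : ∀ a ∈ P, x * a * x⁻¹ ∈ A := by
    intro a ha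
    rw [hA]
    exact ⟨a, ha, rfl⟩
  have hAN : A ≤ normalizer (X : Set G) := by
    apply fpf_le_normalizer
    intro b hb h hh
    rw [hA] at hb
    obtain ⟨a, ha, rfl⟩ := hb
    have h1 : a * (x⁻¹ * h * x) = (x⁻¹ * h * x) * a := hPab a ha _ (hXx h hh)
    have : (MulAut.conj x).toMonoidHom a * h * ((MulAut.conj x).toMonoidHom a)⁻¹ = h := by
      show (x * a * x⁻¹) * h * (x * a * x⁻¹)⁻¹ = h
      calc (x * a * x⁻¹) * h * (x * a * x⁻¹)⁻¹ = x * (a * (x⁻¹ * h * x)) * a⁻¹ * x⁻¹ := by group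
        _ = h := by rw [h1]; group
    rw [this]
    exact hh
  have hAp : IsPGroup p A := by
    rw [hA]
    exact P.isPGroup'.map _
  have hAP : A ≤ (P : Subgroup G) := fpf_le_sylow P A hAp (hAN.trans hLN)
  have hAeq : A = (P : Subgroup G) := by
    apply Subgroup.eq_of_le_of_card_ge hAP
    rw [hA, Subgroup.card_map_of_injective (MulAut.conj x).injective]
  have hxN : x ∈ normalizer ((P : Subgroup G) : Set G) := by
    rw [mem_normalizer_iff]
    intro h
    constructor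
    · intro hh
      exact hAP (hmemA h hh)
    · intro hh
      rw [← hAeq, hA] at hh
      obtain ⟨a, ha, hah⟩ := hh
      have : a = h := (MulAut.conj x).injective hah
      rw [← this]
      exact ha
  have hxp : IsPGroup p (zpowers x) := by
    obtain ⟨k, hk⟩ := C.hgp
    have h1 : IsPGroup p (zpowers g) := IsPGroup.of_card (n := k) (by rw [Nat.card_zpowers, hk])
    apply h1.to_le
    rw [zpowers_le, hx]
    exact pow_mem (mem_zpowers g) i
  have hxP : x ∈ (P : Subgroup G) :=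
    fpf_le_sylow P _ hxp (by rw [zpowers_le]; exact hxN) (mem_zpowers x)
  have hdisj : Disjoint (P : Subgroup G) (Q : Subgroup G) :=
    IsPGroup.disjoint_of_ne p 2 C.hp2 _ _ P.isPGroup' Q.isPGroup'
  have hz : x * t * x⁻¹ * t⁻¹ = 1 := by
    have h1 : x * t * x⁻¹ * t⁻¹ ∈ (P : Subgroup G) := by
      have : x * t * x⁻¹ * t⁻¹ = x * (t * x⁻¹ * t⁻¹) := by group
      rw [this]
      exact mul_mem hxP ((mem_normalizer_iff.1 (hQP ht) _).1 (inv_mem hxP))
    have h2 : x * t * x⁻¹ * t⁻¹ ∈ (Q : Subgroup G) := by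
      rw [hi]
      exact mul_mem hu (inv_mem ht)
    have := (disjoint_def.1 hdisj) h1 h2
    exact this
  apply hut
  rw [← hi]
  exact mul_inv_eq_one.1 hz

end Cfsg.Agent.Lib.Helper37.MIX
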