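import Mathlib
import Cfsg.Agent.Lib.Helper37.MIX.Defs
import Cfsg.Agent.Lib.Helper37.MIX.ORB
import Cfsg.Agent.Lib.Helper37.MIX.ELEM
import Cfsg.Agent.Lib.Helper37.MIX.BURN
import Cfsg.Agent.Lib.Helper31.Nilpotent

set_option autoImplicit false

namespace Cfsg.Agent.Lib.Helper37.MIX

open Subgroup

variable {G : Type*} [Group G] [Finite G] {p q : ℕ}

/-- an odd number all of whose prime divisors are `p` or `2` is a power of `p`. -/
theorem nonab_pow_of_PQ {n : ℕ} (hn : n ≠ 0) (h : PQ p 2 n) (h2 : ¬ 2 ∣ n) : ∃ k : ℕ, n = p ^ k :=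
  ⟨_, Nat.eq_prime_pow_of_unique_prime_dvd hn
    (fun {d} hd hdd => (h d hd hdd).resolve_right (by rintro rfl; exact h2 hdd))⟩

variable {Q : Sylow 2 G} {g : G}

/-- NONAB -/
theorem Ctx.nonab [Fact p.Prime] (C : Ctx G p Q g) (t : G) (ht : t ∈ Q) (ht1 : t ≠ 1) (Y : Subgroup G)
    (hY : Cen p Q t Y) (hnc : ¬ (Q : Subgroup G) ≤ centralizer (Y : Set G)) :
    ∃ P : Sylow p G, Y ≤ (P : Subgroup G) ∧ (Q : Subgroup G) ≤ normalizer ((P : Subgroup G) : Set G) := by
  have hpp : p.Prime := C.hp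
  have hpodd : Odd p := hpp.odd_of_ne_two C.hp2
  obtain ⟨hsq, hQab, -⟩ := C.elem
  have hQC : (Q : Subgroup G) ≤ centralizer ({t} : Set G) := by
    intro x hx
    rw [Subgroup.mem_centralizer_singleton_iff]
    exact hQab x hx t ht
  have hQM : (Q : Subgroup G) ≤ normalizer (Y : Set G) := hQC.trans hY.nor
  have hYbot : Y ≠ ⊥ := by
    intro h
    apply hnc
    intro x _
    rw [Subgroup.mem_centralizer_iff]
    intro y hy
    rw [h] at hy
    have : y = 1 := by simpa using hy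
    rw [this, one_mul, mul_one]
  have hot : orderOf t = 2 := orderOf_eq_prime (hsq t ht) ht1
  have h2M : 2 ∣ Nat.card (normalizer (Y : Set G)) :=
    hot ▸ Subgroup.orderOf_dvd_natCard _ (hQM ht)
  have hMtop : normalizer (Y : Set G) ≠ ⊤ := by
    intro h
    have hn : Y.Normal := normalizer_eq_top_iff.1 h
    rcases C.simple Y hn with h | h
    · exact hYbot h
    · obtain ⟨k, hk⟩ := hY.pg ⟨t, h ▸ mem_top t⟩
      have hk' : t ^ p ^ k = 1 := by
        have := congrArg Subtype.val hk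
        simpa using this
      have h2 : 2 ∣ p ^ k := hot ▸ orderOf_dvd_of_pow_eq_one hk'
      have h3 : 2 ∣ p := Nat.prime_two.dvd_of_dvd_pow h2
      exact C.hp2 ((Nat.prime_dvd_prime_iff_eq Nat.prime_two hpp).1 h3).symm
  have hPQM := C.sub _ hMtop h2M
  -- the control of fusion hypothesis
  have hNC : ∀ h ∈ normalizer (Y : Set G), h ∈ normalizer ((Q : Subgroup G) : Set G) →
      h ∈ centralizer ((Q : Subgroup G) : Set G) := by
    intro h hM hN
    by_contra hc
    have : Fact (Nat.Prime 2) := ⟨Nat.prime_two⟩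
    obtain ⟨a, ha, b, hb, hab, ⟨k, hk⟩, hbq⟩ :=
      Cfsg.Agent.Lib.Helper31.exists_prime_decomp 2 h (isOfFinOrder_of_finite h)
    have hzN : zpowers h ≤ normalizer ((Q : Subgroup G) : Set G) := by
      rw [zpowers_le]; exact hN
    have hzM : zpowers h ≤ normalizer (Y : Set G) := by
      rw [zpowers_le]; exact hM
    have haQ : a ∈ (Q : Subgroup G) := by
      have h1 : IsPGroup 2 (zpowers a) := by
        apply IsPGroup.of_card (n := k)
        rw [Nat.card_zpowers, hk]
      have h2 := h1.inf_normalizer_sylow Q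
      have h3 : a ∈ zpowers a ⊓ (Q : Subgroup G) := by
        rw [← h2]
        exact ⟨mem_zpowers a, hzN ha⟩
      exact h3.2
    have haC : a ∈ centralizer ((Q : Subgroup G) : Set G) := by
      rw [Subgroup.mem_centralizer_iff]
      intro x hx
      exact hQab x hx a haQ
    have hbC : b ∉ centralizer ((Q : Subgroup G) : Set G) := by
      intro hbC
      apply hc
      rw [hab]
      exact mul_mem haC hbC
    have hbp : ∃ k : ℕ, orderOf b = p ^ k := by
      apply nonab_pow_of_PQ (orderOf_pos b).ne'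
      · intro l hl hld
        exact hPQM l hl (hld.trans (Subgroup.orderOf_dvd_natCard _ (hzM hb)))
      · intro h2
        have := Nat.Coprime.eq_one_of_dvd hbq.symm h2
        omega
    have horb := (orb hpp (Q : Subgroup G) b (hzN hb) hbp hbC).2 C.card
    apply hnc
    intro u hu
    rw [Subgroup.mem_centralizer_iff]
    intro y hy
    by_cases hu1 : u = 1
    · rw [hu1, one_mul, mul_one]
    obtain ⟨i, hi⟩ := horb t ht ht1 u hu hu1
    have hbi : (b ^ i)⁻¹ ∈ normalizer (Y : Set G) := inv_mem (pow_mem (hzM hb) i)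
    have hy' : (b ^ i)⁻¹ * y * (b ^ i)⁻¹⁻¹ ∈ Y := (Subgroup.mem_normalizer_iff.1 hbi y).1 hy
    rw [inv_inv] at hy'
    have hty := hY.le hy'
    rw [Subgroup.mem_centralizer_singleton_iff] at hty
    rw [← hi]
    calc y * (b ^ i * t * (b ^ i)⁻¹) = b ^ i * (((b ^ i)⁻¹ * y * b ^ i) * t) * (b ^ i)⁻¹ := by group
      _ = b ^ i * (t * ((b ^ i)⁻¹ * y * b ^ i)) * (b ^ i)⁻¹ := by rw [hty]
      _ = b ^ i * t * (b ^ i)⁻¹ * y := by group
  obtain ⟨Ys, hYsM, hMYs, h2Ys, -, hmem⟩ := burnside_sub Q hQab _ hQM hNC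
  have hYsp : IsPGroup p Ys := by
    obtain ⟨k, hk⟩ := nonab_pow_of_PQ (p := p) (Nat.card_pos (α := Ys)).ne'
      (fun l hl hld => hPQM l hl (hld.trans (Subgroup.card_dvd_of_le hYsM))) h2Ys
    exact IsPGroup.of_card hk
  obtain ⟨P, hYP⟩ := hY.pg.exists_le_sylow
  have hPM : (P : Subgroup G) ≤ normalizer (Y : Set G) := by
    intro x hx
    apply Subgroup.centralizer_le_normalizer
    rw [Subgroup.mem_centralizer_iff]
    intro y hy
    exact C.ab P y (hYP hy) x hx
  have hPYs : (P : Subgroup G) ≤ Ys := by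
    intro x hx
    apply hmem x (hPM hx)
    obtain ⟨k, hk⟩ := P.2 ⟨x, hx⟩
    have hk' : x ^ p ^ k = 1 := by
      have := congrArg Subtype.val hk
      simpa using this
    obtain ⟨m, -, hm⟩ := (Nat.dvd_prime_pow hpp).1 (orderOf_dvd_of_pow_eq_one hk')
    rw [hm]
    exact hpodd.pow
  have hEq : Ys = (P : Subgroup G) := P.is_maximal' hYsp hPYs
  refine ⟨P, hYP, ?_⟩
  rw [← hEq]
  exact hQM.trans hMYs

end Cfsg.Agent.Lib.Helper37.MIX
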