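import Mathlib
import Cfsg.Agent.Lib.Helper37.MIX.Defs
import Cfsg.Agent.Lib.Helper37.MIX.NQR
import Cfsg.Agent.Lib.Helper77.Frobenius

set_option autoImplicit false

namespace Cfsg.Agent.Lib.Helper37.MIX

open Subgroup

variable {G : Type*} [Group G] [Finite G] {p q : ℕ}

theorem nrm_card_dvd (K N : Subgroup G) [N.Normal] (h : K ⊔ N = ⊤) :
    Nat.card G ∣ Nat.card N * Nat.card K := by
  have h1 := nqr_relIndex_sup (H := K) (N := N) (by rw [normalizer_eq_top]; exact le_top)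
  have h2 := Subgroup.relIndex_mul_relIndex ⊥ N (K ⊔ N) bot_le le_sup_right
  rw [relIndex_bot_left, relIndex_bot_left, h1, h, card_top] at h2
  rw [← h2]
  exact Nat.mul_dvd_mul_left _ (relIndex_dvd_card _ _)

theorem nrm_frattini (N : Subgroup G) [N.Normal] (l : ℕ) (hl : l.Prime) (hlN : l ∣ Nat.card N) :
    ∃ R : Subgroup G, IsPGroup l R ∧ R ≠ ⊥ ∧ normalizer (R : Set G) ⊔ N = ⊤ := by
  have := Fact.mk hl
  obtain ⟨P⟩ : Nonempty (Sylow l N) := inferInstance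
  refine ⟨(P : Subgroup N).map N.subtype, P.2.map _, ?_, Sylow.normalizer_sup_eq_top P⟩
  intro hbot
  exact P.ne_bot_of_dvd_card hlN ((map_eq_bot_iff_of_injective _ N.subtype_injective).1 hbot)

theorem nrm_PQ_mul {a b : ℕ} (ha : PQ p q a) (hb : PQ p q b) : PQ p q (a * b) := by
  intro l hl hd
  rcases (Nat.Prime.dvd_mul hl).1 hd with h1 | h1
  · exact ha l hl h1
  · exact hb l hl h1

theorem nrm_PQ_dvd {a b : ℕ} (hab : a ∣ b) (hb : PQ p q b) : PQ p q a :=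
  fun l hl hd => hb l hl (hd.trans hab)

/-- NRM1. -/
theorem Hyp.normal_pgroup (h : Hyp G p q) (N : Subgroup G) [N.Normal] (hN : ¬ q ∣ Nat.card N) :
    IsPGroup p N := by
  have := Fact.mk h.hp
  by_contra hcon
  have hex : ∃ l, l.Prime ∧ l ∣ Nat.card N ∧ l ≠ p := by
    by_contra hno
    apply hcon
    have h1 := Nat.eq_prime_pow_of_unique_prime_dvd (n := Nat.card N) (p := p) Nat.card_pos.ne'
      (fun {d} hd hdn => by
        by_contra hdp
        exact hno ⟨d, hd, hdn, hdp⟩)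
    exact IsPGroup.of_card h1
  obtain ⟨l, hl, hlN, hlp⟩ := hex
  have hlq : l ≠ q := by rintro rfl; exact hN hlN
  obtain ⟨R, hR, hRne, hfr⟩ := nrm_frattini N l hl hlN
  have hd := nrm_card_dvd (normalizer (R : Set G)) N hfr
  have hq : q ∣ Nat.card N * Nat.card (normalizer (R : Set G)) := h.hqG.trans hd
  rcases (Nat.Prime.dvd_mul h.hq).1 hq with h1 | h1
  · exact hN h1
  · exact h.nr l hl hlp hlq R hR hRne h1

/-- NRM2. -/
theorem Hyp.pq_of_npc (h : Hyp G p q) (hn : Cfsg.Agent.Lib.Helper77.NPC q G) :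
    PQ p q (Nat.card G) := by
  have := Fact.mk h.hp
  obtain ⟨K, hKn, hKc, k, hk⟩ := hn
  have hq : ¬ q ∣ Nat.card K := fun hd => (Nat.Prime.coprime_iff_not_dvd h.hq).1 hKc.symm hd
  obtain ⟨a, ha⟩ := (h.normal_pgroup K hq).exists_card_eq
  rw [← K.card_mul_index, ha, hk]
  intro l hl hd
  rcases (Nat.Prime.dvd_mul hl).1 hd with h1 | h1
  · exact Or.inl ((Nat.prime_dvd_prime_iff_eq hl h.hp).1 (hl.dvd_of_dvd_pow h1))
  · exact Or.inr ((Nat.prime_dvd_prime_iff_eq hl h.hq).1 (hl.dvd_of_dvd_pow h1))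

/-- NRM3. -/
theorem Hyp.simple (h : Hyp G p q)
    (hsub : ∀ H : Subgroup G, H ≠ ⊤ → q ∣ Nat.card H → PQ p q (Nat.card H))
    (hOp : ∀ N : Subgroup G, N.Normal → IsPGroup p N → N = ⊥) (hbad : ¬ PQ p q (Nat.card G)) :
    ∀ N : Subgroup G, N.Normal → N = ⊥ ∨ N = ⊤ := by
  intro N hN
  by_cases htop : N = ⊤
  · exact Or.inr htop
  left
  by_cases hq : q ∣ Nat.card N
  · exfalso
    apply hbad
    obtain ⟨R, hR, hRne, hfr⟩ := nrm_frattini N q h.hq hq
    exact nrm_PQ_dvd (nrm_card_dvd (normalizer (R : Set G)) N hfr)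
      (nrm_PQ_mul (hsub N htop hq) (h.nq R hR hRne))
  · exact hOp N hN (h.normal_pgroup N hq)

end Cfsg.Agent.Lib.Helper37.MIX
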