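import Mathlib
import Cfsg.Agent.Lib.Helper37.MIX.Defs

set_option autoImplicit false

namespace Cfsg.Agent.Lib.Helper37.MIX

open Subgroup

variable {G : Type*} [Group G] [Finite G] {p q : ℕ}

/-- QUOT. -/
theorem Hyp.quotient (h : Hyp G p q)
    (hsub : ∀ H : Subgroup G, H ≠ ⊤ → q ∣ Nat.card H → PQ p q (Nat.card H))
    (N : Subgroup G) [N.Normal] (hN : IsPGroup p N) (hpN : p ∣ Nat.card (G ⧸ N)) :
    Hyp (G ⧸ N) p q := by
  have hpF : Fact p.Prime := ⟨h.hp⟩
  have hqF : Fact q.Prime := ⟨h.hq⟩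
  obtain ⟨k, hk⟩ := IsPGroup.iff_card.1 hN
  have hcard : Nat.card G = Nat.card (G ⧸ N) * p ^ k := by
    rw [← hk]; exact Subgroup.card_eq_card_quotient_mul_card_subgroup N
  have hqpk : ¬ q ∣ p ^ k := fun hd =>
    h.hpq ((Nat.prime_dvd_prime_iff_eq h.hq h.hp).1 (h.hq.dvd_of_dvd_pow hd)).symm
  have hfac : (Nat.card (G ⧸ N)).factorization q = (Nat.card G).factorization q := by
    rw [hcard, Nat.factorization_mul Nat.card_pos.ne' (pow_pos h.hp.pos k).ne', Finsupp.add_apply,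
      Nat.factorization_eq_zero_of_not_dvd hqpk, add_zero]
  refine ⟨h.hp, h.hq, h.hpq, h.hp2, hpN, ?_, ?_, ?_⟩
  · have h1 := h.hqG
    rw [hcard] at h1
    rcases (Nat.Prime.dvd_mul h.hq).1 h1 with h2 | h2
    · exact h2
    · exact absurd h2 hqpk
  · intro Hb hHb hnq hq'
    have hsurj : Function.Surjective (QuotientGroup.mk' N) := QuotientGroup.mk'_surjective N
    have hne : Hb.comap (QuotientGroup.mk' N) ≠ ⊤ := by
      intro htop
      apply hHb
      rw [← Subgroup.map_comap_eq_self_of_surjective hsurj Hb, htop, ← MonoidHom.range_eq_map,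
        MonoidHom.range_eq_top.2 hsurj]
    have hdvd : Nat.card Hb ∣ Nat.card (Hb.comap (QuotientGroup.mk' N)) :=
      Subgroup.card_dvd_of_surjective ((QuotientGroup.mk' N).subgroupComap Hb)
        (MonoidHom.subgroupComap_surjective_of_surjective _ _ hsurj)
    have hPQ := hsub _ hne (hq'.trans hdvd)
    by_contra hp'
    apply hnq
    have h3 : Nat.card Hb = q ^ (Nat.card Hb).primeFactorsList.length := by
      apply Nat.eq_prime_pow_of_unique_prime_dvd Nat.card_pos.ne'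
      intro d hd hdH
      rcases hPQ d hd (hdH.trans hdvd) with h4 | h4
      · exact absurd (h4 ▸ hdH) hp'
      · exact h4
    exact IsPGroup.of_card h3
  · rw [hfac]
    rcases h.hlarge with h1 | ⟨h1, h2⟩
    · exact Or.inl h1
    · refine Or.inr ⟨h1, fun Pb => ?_⟩
      have hpg : IsPGroup p ((Pb : Subgroup (G ⧸ N)).comap (QuotientGroup.mk' N)) := by
        apply Pb.2.comap_of_ker_isPGroup
        rw [QuotientGroup.ker_mk']
        exact hN
      obtain ⟨P, hP⟩ := hpg.exists_le_sylow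
      refine ⟨⟨fun a b => ?_⟩⟩
      obtain ⟨x, hx⟩ := QuotientGroup.mk'_surjective N (a : G ⧸ N)
      obtain ⟨y, hy⟩ := QuotientGroup.mk'_surjective N (b : G ⧸ N)
      have hxP : x ∈ P := hP (by rw [Subgroup.mem_comap, hx]; exact a.2)
      have hyP : y ∈ P := hP (by rw [Subgroup.mem_comap, hy]; exact b.2)
      have hc : (⟨x, hxP⟩ : P) * ⟨y, hyP⟩ = ⟨y, hyP⟩ * ⟨x, hxP⟩ := (h2 P).is_comm.comm _ _
      have hc' : x * y = y * x := congrArg Subtype.val hc
      apply Subtype.ext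
      show (a : G ⧸ N) * (b : G ⧸ N) = (b : G ⧸ N) * (a : G ⧸ N)
      rw [← hx, ← hy, ← map_mul, ← map_mul, hc']

end Cfsg.Agent.Lib.Helper37.MIX
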