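import Mathlib
import Cfsg.Agent.Lib.Helper37.MIX.Defs

set_option autoImplicit false

namespace Cfsg.Agent.Lib.Helper37.MIX

open Subgroup

variable {G : Type*} [Group G] [Finite G] {p q : ℕ}

theorem Hyp.subgroup (h : Hyp G p q) (H : Subgroup G) (hpH : p ∣ Nat.card H) (hqH : q ∣ Nat.card H) :
    Hyp H p q := by
  have := Fact.mk h.hq
  have := Fact.mk h.hp
  refine ⟨h.hp, h.hq, h.hpq, h.hp2, hpH, hqH, ?_, ?_⟩
  · intro H' hH' hnq hq'
    have hcard : Nat.card (H'.map H.subtype) = Nat.card H' :=
      Subgroup.card_map_of_injective H.subtype_injective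
    rw [← hcard]
    apply h.hmix
    · intro htop
      apply hH'
      rw [eq_top_iff]
      intro x _
      have : (x : G) ∈ H'.map H.subtype := by rw [htop]; trivial
      obtain ⟨y, hy, hyx⟩ := this
      have : y = x := Subtype.ext hyx
      rwa [← this]
    · intro hK
      apply hnq
      obtain ⟨n, hn⟩ := IsPGroup.iff_card.mp hK
      exact IsPGroup.of_card (n := n) (by rw [← hcard, hn])
    · rw [hcard]; exact hq'
  · have hb : (Nat.card H).factorization q ≤ (Nat.card G).factorization q :=
      (Nat.factorization_le_iff_dvd Nat.card_pos.ne' Nat.card_pos.ne').mpr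
        (Subgroup.card_subgroup_dvd_card H) q
    have hle : q ^ (Nat.card H).factorization q ≤ q ^ (Nat.card G).factorization q :=
      Nat.pow_le_pow_right h.hq.pos hb
    have hpos : 0 < q ^ (Nat.card H).factorization q := pow_pos h.hq.pos _
    rcases h.hlarge with hl | ⟨hl, hab⟩
    · left; omega
    · by_cases hba : (Nat.card H).factorization q = (Nat.card G).factorization q
      · right
        refine ⟨by rw [hba]; exact hl, ?_⟩
        intro P'
        have hP' : IsPGroup p ((P' : Subgroup H).map H.subtype) := P'.2.map _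
        obtain ⟨P, hP⟩ := hP'.exists_le_sylow
        refine ⟨⟨fun a b => ?_⟩⟩
        have ha : ((a : H) : G) ∈ (P : Subgroup G) := hP ⟨a, a.2, rfl⟩
        have hb' : ((b : H) : G) ∈ (P : Subgroup G) := hP ⟨b, b.2, rfl⟩
        have := (hab P).is_comm.comm (⟨_, ha⟩ : P) ⟨_, hb'⟩
        have h2 : ((a : H) : G) * ((b : H) : G) = ((b : H) : G) * ((a : H) : G) :=
          congrArg Subtype.val this
        exact Subtype.ext (Subtype.ext h2)
      · left
        have hlt : (Nat.card H).factorization q < (Nat.card G).factorization q :=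
          lt_of_le_of_ne hb hba
        have : q ^ (Nat.card H).factorization q < q ^ (Nat.card G).factorization q :=
          Nat.pow_lt_pow_right h.hq.one_lt hlt
        omega

end Cfsg.Agent.Lib.Helper37.MIX
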