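import Mathlib
import Cfsg.Agent.Lib.Helper37.MIX.Defs
import Cfsg.Agent.Lib.Helper77.Frobenius
import Cfsg.Agent.Lib.Helper37.MIX.NQR
import Cfsg.Agent.Lib.Helper37.MIX.NRM
import Cfsg.Agent.Lib.Helper37.MIX.ORB
import Cfsg.Agent.Lib.Helper37.MIX.SUBH
import Cfsg.Agent.Lib.Helper37.MIX.QUOT
import Cfsg.Agent.Lib.Helper37.MIX.ELEM
import Cfsg.Agent.Lib.Helper37.MIX.BURN
import Cfsg.Agent.Lib.Helper37.MIX.CENT
import Cfsg.Agent.Lib.Helper37.MIX.ABCS
import Cfsg.Agent.Lib.Helper37.MIX.ABC3
import Cfsg.Agent.Lib.Helper37.MIX.HALL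
import Cfsg.Agent.Lib.Helper37.MIX.NONAB
import Cfsg.Agent.Lib.Helper37.MIX.FPF
import Cfsg.Agent.Lib.Helper37.MIX.FOUR
import Cfsg.Agent.Lib.Helper37.MIX.CTE
import Cfsg.Agent.Lib.Helper37.MIX.TI
import Cfsg.Agent.Lib.Helper37.MIX.BSWH
import Cfsg.Agent.Lib.Helper37.MIX.BSWF

set_option autoImplicit false

universe u

namespace Cfsg.Agent.Lib.Helper37.MIX

open Subgroup

theorem Hyp.exists_trans {G : Type u} [Group G] [Finite G] {p q : ℕ} (h : Hyp G p q)
    (hbad : ¬ PQ p q (Nat.card G)) :
    p + 1 = q ^ (Nat.card G).factorization q ∧ ∃ (Q : Sylow q G) (g : G),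
      g ∈ normalizer ((Q : Subgroup G) : Set G) ∧ (∃ k : ℕ, orderOf g = p ^ k) ∧
      Nat.card Q = p + 1 ∧
      ∀ x ∈ Q, x ≠ 1 → ∀ y ∈ Q, y ≠ 1 → ∃ i : ℕ, g ^ i * x * (g ^ i)⁻¹ = y := by
  have := Fact.mk h.hq
  have hnpc : ¬ Cfsg.Agent.Lib.Helper77.NPC q G := fun hn => hbad (h.pq_of_npc hn)
  rw [Cfsg.Agent.Lib.Helper77.npc_iff_frobCond] at hnpc
  unfold Cfsg.Agent.Lib.Helper77.FrobCond at hnpc
  push Not at hnpc
  obtain ⟨Q0, hQ0, g, hg, hgo, hgc⟩ := hnpc
  have hne : Q0 ≠ ⊥ := by
    rintro rfl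
    apply hgc
    rw [mem_centralizer_iff]
    intro x hx
    have : x = 1 := hx
    rw [this]; simp
  have hPQ := h.nq Q0 hQ0 hne
  have hdvd : orderOf g ∣ Nat.card ↥(normalizer (Q0 : Set G)) := by
    have := orderOf_dvd_natCard (⟨g, hg⟩ : ↥(normalizer (Q0 : Set G)))
    rwa [Subgroup.orderOf_mk] at this
  have hgp : ∃ k : ℕ, orderOf g = p ^ k := by
    refine ⟨_, Nat.eq_prime_pow_of_unique_prime_dvd (orderOf_pos g).ne' ?_⟩
    intro d hd hdg
    rcases hPQ d hd (hdg.trans hdvd) with rfl | rfl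
    · rfl
    · exfalso
      have : d ∣ Nat.gcd (orderOf g) d := Nat.dvd_gcd hdg dvd_rfl
      rw [hgo] at this
      exact hd.one_lt.ne' (Nat.dvd_one.mp this)
  obtain ⟨h1, h2⟩ := orb h.hp Q0 g hg hgp hgc
  obtain ⟨Q, hQ⟩ := hQ0.exists_le_sylow
  have hcQ : Nat.card Q = q ^ (Nat.card G).factorization q := Q.card_eq_multiplicity
  have hle : Nat.card Q0 ≤ Nat.card Q := Subgroup.card_le_of_le hQ
  have hpos : 0 < q ^ (Nat.card G).factorization q := pow_pos h.hq.pos _
  rcases h.hlarge with hl | ⟨hl, -⟩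
  · exfalso; omega
  · have e1 : p + 1 = q ^ (Nat.card G).factorization q := by omega
    have e2 : Nat.card Q0 = p + 1 := by omega
    have e3 : Q0 = (Q : Subgroup G) := Subgroup.eq_of_le_of_card_ge hQ (by omega)
    refine ⟨e1, Q, g, ?_, hgp, by omega, ?_⟩
    · rw [← e3]; exact hg
    · intro x hx hx1 y hy hy1
      have hx' : x ∈ Q0 := by rw [e3]; exact hx
      have hy' : y ∈ Q0 := by rw [e3]; exact hy
      exact h2 e2 x hx' hx1 y hy' hy1

theorem Ctx.false {G : Type*} [Group G] [Finite G] {p : ℕ} {Q : Sylow 2 G} {g : G}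
    (C : Ctx G p Q g) : False := by
  have := Fact.mk C.hp
  obtain ⟨hexp, hQab, hconj⟩ := C.elem
  have hcard := C.card
  have hp1 : 1 < p := C.hp.one_lt
  obtain ⟨t, ht, ht1⟩ : ∃ t ∈ (Q : Subgroup G), t ≠ 1 := by
    by_contra hcon
    push Not at hcon
    have : (Q : Subgroup G) = ⊥ := (Subgroup.eq_bot_iff_forall _).mpr hcon
    have h1 : Nat.card (Q : Subgroup G) = 1 := by rw [this]; exact Subgroup.card_bot
    have h2 : Nat.card (Q : Subgroup G) = p + 1 := hcard
    omega
  obtain ⟨Y, hY⟩ := C.cent t ht ht1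
  by_cases hc : (Q : Subgroup G) ≤ centralizer (Y : Set G)
  · have hYab : ∀ x ∈ Y, ∀ y ∈ Y, x * y = y * x := by
      obtain ⟨P, hP⟩ := hY.pg.exists_le_sylow
      intro x hx y hy
      exact C.ab P x (hP hx) y (hP hy)
    have hZ : Y ⊔ (Q : Subgroup G) ≤ centralizer (Y : Set G) ⊓ centralizer ((Q : Subgroup G) : Set G) := by
      apply sup_le
      · intro y hy
        have a1 : y ∈ centralizer (Y : Set G) := by
          rw [mem_centralizer_iff]
          intro x hx
          exact hYab x hx y hy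
        have a2 : y ∈ centralizer ((Q : Subgroup G) : Set G) := by
          rw [mem_centralizer_iff]
          intro x hx
          exact ((mem_centralizer_iff.mp (hc hx)) y hy).symm
        exact ⟨a1, a2⟩
      · intro y hy
        have a2 : y ∈ centralizer ((Q : Subgroup G) : Set G) := by
          rw [mem_centralizer_iff]
          intro x hx
          exact hQab x hx y hy
        exact ⟨hc hy, a2⟩
    have hab : ∀ x ∈ centralizer ({t} : Set G), ∀ y ∈ centralizer ({t} : Set G), x * y = y * x := by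
      intro x hx y hy
      rw [← hY.sup] at hx hy
      have hxZ := hZ hx
      have : Y ⊔ (Q : Subgroup G) ≤ centralizer ({x} : Set G) := by
        apply sup_le
        · intro z hz
          rw [mem_centralizer_singleton_iff]
          exact (mem_centralizer_iff.mp hxZ.1) z hz
        · intro z hz
          rw [mem_centralizer_singleton_iff]
          exact (mem_centralizer_iff.mp hxZ.2) z hz
      exact (mem_centralizer_singleton_iff.mp (this hy)).symm
    by_cases hp3 : p = 3
    · exact C.ab_false_3 hp3 t ht ht1 hab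
    · exact C.ab_false_ne3 hp3 t ht ht1 hab
  · obtain ⟨P, hYP, hQP⟩ := C.nonab t ht ht1 Y hY hc
    have hfpf := C.fpf t ht ht1 Y hY P hYP hQP
    have hP1 : (P : Subgroup G) ≠ ⊥ := by
      intro hP
      apply hc
      have : Y = ⊥ := by rw [eq_bot_iff, ← hP]; exact hYP
      rw [this]
      intro x _
      rw [mem_centralizer_iff]
      intro y hy
      have : y = 1 := hy
      rw [this]; simp
    obtain ⟨hp3, htP, hinv⟩ := C.four t ht ht1 P hP1 hQP hfpf
    obtain ⟨Q', D, -, h1, h2, h3, -, h4, h5⟩ := C.bsw hp3 t ht ht1 P hP1 hQP htP hinv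
    exact C.bsw_false hp3 t ht ht1 P htP Q' D h1 h2 h3 h4 h5

theorem main_aux : ∀ (n : ℕ) (G : Type u) [Group G] [Finite G], Nat.card G = n →
    ∀ p q : ℕ, Hyp G p q → PQ p q (Nat.card G) := by
  intro n
  induction n using Nat.strong_induction_on with
  | _ n IH =>
    intro G _ _ hn p q h
    by_contra hbad
    have := Fact.mk h.hp
    obtain ⟨hpe, Q, g, hg, hgp, hcard, htr⟩ := h.exists_trans hbad
    have hq2 : q = 2 := by
      have hodd : Odd p := h.hp.odd_of_ne_two h.hp2
      have h2 : 2 ∣ q ^ (Nat.card G).factorization q := by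
        rw [← hpe]
        obtain ⟨k, hk⟩ := hodd
        exact ⟨k + 1, by omega⟩
      exact ((Nat.prime_dvd_prime_iff_eq Nat.prime_two h.hq).mp
        (Nat.prime_two.dvd_of_dvd_pow h2)).symm
    subst hq2
    have hab : ∀ P : Sylow p G, IsMulCommutative P := by
      rcases h.hlarge with hl | ⟨-, hl⟩
      · exfalso; omega
      · exact hl
    have hsub : ∀ H : Subgroup G, H ≠ ⊤ → 2 ∣ Nat.card H → PQ p 2 (Nat.card H) := by
      intro H hH h2
      by_cases hq : IsPGroup 2 H
      · intro l hl hdvd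
        right
        obtain ⟨k, hk⟩ := IsPGroup.iff_card.mp hq
        rw [hk] at hdvd
        exact (Nat.prime_dvd_prime_iff_eq hl Nat.prime_two).mp (hl.dvd_of_dvd_pow hdvd)
      · have hpH := h.hmix H hH hq h2
        have hlt : Nat.card H < n := by
          rw [← hn]
          exact lt_of_le_of_ne (Subgroup.card_le_card_group H)
            (fun e => hH (Subgroup.eq_top_of_card_eq H e))
        exact IH (Nat.card H) hlt H rfl p 2 (h.subgroup H hpH h2)
    have hOp : ∀ N : Subgroup G, N.Normal → IsPGroup p N → N = ⊥ := by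
      intro N hN hNp
      by_contra hne
      have := hN
      have hpN := quot_dvd h.hp h.hp2 Q g hg hgp hcard htr N hNp
      have hq := h.quotient hsub N hNp hpN
      have hmul := Subgroup.card_eq_card_quotient_mul_card_subgroup N
      have hN1 : 1 < Nat.card N := by
        rcases Nat.lt_or_ge 1 (Nat.card N) with h1 | h1
        · exact h1
        · exfalso
          apply hne
          have : Nat.card N = 1 := le_antisymm h1 Nat.card_pos
          exact (Subgroup.card_eq_one).mp this
      have hlt : Nat.card (G ⧸ N) < n := by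
        rw [← hn, hmul]
        have : 0 < Nat.card (G ⧸ N) := Nat.card_pos
        nlinarith
      have hPQ := IH _ hlt (G ⧸ N) rfl p 2 hq
      apply hbad
      intro l hl hdvd
      rw [hmul] at hdvd
      rcases (Nat.Prime.dvd_mul hl).mp hdvd with h1 | h1
      · exact hPQ l hl h1
      · left
        obtain ⟨k, hk⟩ := IsPGroup.iff_card.mp hNp
        rw [hk] at h1
        exact (Nat.prime_dvd_prime_iff_eq hl h.hp).mp (hl.dvd_of_dvd_pow h1)
    have hsimple := h.simple hsub hOp hbad
    have C : Ctx G p Q g :=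
      { hp := h.hp
        hp2 := h.hp2
        sub := hsub
        simple := hsimple
        bad := hbad
        ab := fun P x hx y hy => by
          have := (hab P).is_comm.comm (⟨x, hx⟩ : P) ⟨y, hy⟩
          exact congrArg Subtype.val this
        nr := fun l hl hlp hl2 R hR hne => h.nr l hl hlp hl2 R hR hne
        hg := hg
        hgp := hgp
        card := hcard
        trans := htr }
    exact C.false

end Cfsg.Agent.Lib.Helper37.MIX
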